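import Cfsg.Agent.EqLemmas
import Cfsg.Agent.Lib.FusionCrit.NormalResidual
import Cfsg.Agent.Lib.FusionCrit.Basic
import Cfsg.Agent.Lib.FusionChain.Radical
import Cfsg.Agent.Lib.FusionNormalCent.Closed

/-
Maps of a system over an invariant subsystem `E` on `T`: the decompositions `f = γ ∘ g` on `P ⊓ T` with `γ` in a given
group `K` of automorphisms of `T` and `g` a map of `E`.
Main results: `Dec`, `Dec.comp`, `Dec.inv`, `Dec.twist`, `decSys`, `mem_of_dec`, `exists_bad`,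
`mem_pCoreAut_of_fix`, `isCentric_inf_of_radical`, `exists_top_class`.
-/

set_option autoImplicit false

namespace Cfsg.Agent.FusionEnvelope

open Cfsg Cfsg.FusionSystem Cfsg.Agent.Fusion Cfsg.Agent.FusionChain Cfsg.Agent.FusionNormal

variable {Ω : Type*} [Group Ω] {S T : Subgroup Ω} {F : FusionSystem S} {E : FusionSystem T} {p : ℕ}

/-- `f` is, on `Q`, an element of `K` after a map of `E`. -/
def Dec (E : FusionSystem T) (K : Subgroup (MulAut T)) (Q : Subgroup Ω) (f : Ω → Ω) : Prop :=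
  ∃ γ ∈ K, ∃ g, IsMap E Q g ∧ ∀ x ∈ Q, f x = autFn γ (g x)

namespace Dec

variable {K : Subgroup (MulAut T)} {Q Q' Q₁ : Subgroup Ω} {f f' : Ω → Ω}

theorem mem (h : Dec E K Q f) {x : Ω} (hx : x ∈ Q) : f x ∈ T := by
  obtain ⟨γ, -, g, hg, he⟩ := h
  rw [he x hx]
  exact autFn_mem γ (hg.mem hx)

theorem mono (h : Dec E K Q f) (hQ : Q' ≤ Q) : Dec E K Q' f :=
  let ⟨γ, hγ, g, hg, he⟩ := h
  ⟨γ, hγ, g, hg.mono hQ, fun x hx => he x (hQ hx)⟩

theorem mono_group (h : Dec E K Q f) {K₁ : Subgroup (MulAut T)} (hK : K ≤ K₁) : Dec E K₁ Q f :=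
  let ⟨γ, hγ, g, hg, he⟩ := h
  ⟨γ, hK hγ, g, hg, he⟩

theorem congr (h : Dec E K Q f) (e : ∀ x ∈ Q, f x = f' x) : Dec E K Q f' :=
  let ⟨γ, hγ, g, hg, he⟩ := h
  ⟨γ, hγ, g, hg, fun x hx => (e x hx).symm.trans (he x hx)⟩

theorem of_aut (hQ : Q ≤ T) {γ : MulAut T} (hγ : γ ∈ K) : Dec E K Q (autFn γ) :=
  ⟨γ, hγ, fun x => x, IsMap.id hQ, fun _ _ => rfl⟩

theorem of_map (h : IsMap E Q f) : Dec E K Q f :=
  ⟨1, one_mem K, f, h, fun x hx => (autFn_apply 1 (h.mem hx)).symm⟩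

theorem comp (hi : E.IsInvariantIn F) (hK : K ≤ F.autGroup T) (h : Dec E K Q f) (h' : Dec E K Q' f')
    (hle : ∀ x ∈ Q, f x ∈ Q') : Dec E K Q (fun x => f' (f x)) := by
  obtain ⟨γ, hγ, g, hg, he⟩ := h
  obtain ⟨γ', hγ', g', hg', he'⟩ := h'
  have hi' : γ⁻¹ ∈ F.autGroup T := hK (inv_mem hγ)
  obtain ⟨k, hk, hke⟩ := transport_map hi hg'.le hg' hi'
  have hb : IsMap F T (autFn γ⁻¹) := (mem_autGroup_iff hi.2.1.1).1 hi'
  have hmem : ∀ x ∈ Q, g x ∈ img (autFn γ⁻¹) Q' := fun x hx => by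
    rw [← FusionCrit.autFn_inv_self γ (hg.mem hx), ← he x hx]
    exact hb.mem_img (hle x hx)
  refine ⟨γ' * γ, mul_mem hγ' hγ, fun x => k (g x), hg.comp hk hmem, fun x hx => ?_⟩
  have h1 : k (g x) = autFn γ⁻¹ (g' (f x)) := by
    rw [← hke _ (hle x hx), he x hx, FusionCrit.autFn_inv_self γ (hg.mem hx)]
  show f' (f x) = autFn (γ' * γ) (k (g x))
  rw [h1, he' _ (hle x hx), FusionCrit.autFn_mul _ _ (autFn_mem _ (hg'.mem (hle x hx))),
    FusionCrit.autFn_self_inv γ (hg'.mem (hle x hx))]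

theorem inv (hi : E.IsInvariantIn F) (hK : K ≤ F.autGroup T) (h : Dec E K Q f) {i : Ω → Ω}
    (hif : ∀ x ∈ Q, i (f x) = x) (hQ₁ : ∀ y ∈ Q₁, ∃ x ∈ Q, f x = y) : Dec E K Q₁ i := by
  obtain ⟨γ, hγ, g, hg, he⟩ := h
  obtain ⟨j, hj, hjl, -⟩ := hg.isIso.symm
  obtain ⟨k, hk, hke⟩ := transport_map hi hg.img_le_S hj.1 (hK hγ)
  have hb : IsMap F T (autFn γ) := (mem_autGroup_iff hi.2.1.1).1 (hK hγ)
  refine ⟨γ⁻¹, inv_mem hγ, k, hk.mono ?_, fun y hy => ?_⟩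
  · intro y hy
    obtain ⟨x, hx, rfl⟩ := hQ₁ y hy
    rw [he x hx]
    exact hb.mem_img (hg.mem_img hx)
  · obtain ⟨x, hx, rfl⟩ := hQ₁ y hy
    rw [hif x hx, he x hx, hke _ (hg.mem_img hx), hjl x hx,
      FusionCrit.autFn_inv_self γ (hg.le hx)]

theorem twist (hi : E.IsInvariantIn F) (hK : K ≤ F.autGroup T)
    (hKn : ∀ α ∈ F.autGroup T, ∀ γ ∈ K, α * γ * α⁻¹ ∈ K) (h : Dec E K Q f) (hQ : Q ≤ T)
    {α : MulAut T} (hα : α ∈ F.autGroup T) {g : Ω → Ω}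
    (hg : ∀ x ∈ Q, g (autFn α x) = autFn α (f x))
    (hQ₁ : ∀ y ∈ Q₁, ∃ x ∈ Q, autFn α x = y) : Dec E K Q₁ g := by
  obtain ⟨γ, hγ, g₀, hg₀, he⟩ := h
  obtain ⟨k, hk, hke⟩ := transport_map hi hQ hg₀ hα
  have hb : IsMap F T (autFn α) := (mem_autGroup_iff hi.2.1.1).1 hα
  refine ⟨α * γ * α⁻¹, hKn α hα γ hγ, k, hk.mono ?_, fun y hy => ?_⟩
  · intro y hy
    obtain ⟨x, hx, rfl⟩ := hQ₁ y hy
    exact hb.mem_img hx
  · obtain ⟨x, hx, rfl⟩ := hQ₁ y hy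
    have h1 : g₀ x ∈ T := hg₀.mem hx
    rw [hg x hx, hke x hx, he x hx, FusionCrit.autFn_mul _ _ (autFn_mem α h1),
      FusionCrit.autFn_inv_self α h1, FusionCrit.autFn_mul _ _ h1]

end Dec

theorem mem_inf_of_map {S₁ : Subgroup Ω} {G : FusionSystem S₁} (hT : G.StronglyClosed T) {P : Subgroup Ω}
    {f : Ω → Ω} (hf : IsMap G P f) {x : Ω} (hx : x ∈ P) : f x ∈ T ↔ x ∈ T := by
  refine ⟨fun h => ?_, fun h => isMap_mem_of_stronglyClosed hT hf hx h⟩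
  obtain ⟨i, hi, hil, -⟩ := hf.isIso.symm
  rw [← hil x hx]
  exact isMap_mem_of_stronglyClosed hT hi.1 (hf.mem_img hx) h

/-- The maps of `G` inside `U` decomposing on `T` with factor in `K`. -/
def decSys {S₁ : Subgroup Ω} (G : FusionSystem S₁) (hi : E.IsInvariantIn F) (hT : G.StronglyClosed T)
    {K : Subgroup (MulAut T)} (hK : K ≤ F.autGroup T) (U : Subgroup Ω) (hU : U ≤ S₁)
    (hc : ∀ s ∈ U, ∃ γ ∈ K, ∀ x ∈ T, autFn γ x = s * x * s⁻¹) : FusionSystem U where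
  Hom P := {φ | P ≤ U ∧ (∀ x : P, φ x ∈ U) ∧ φ ∈ G.Hom P ∧ Dec E K (P ⊓ T) (toFn φ)}
  le_of_mem h := ⟨h.1, h.2.1⟩
  injective_of_mem h := G.injective_of_mem h.2.2.1
  conj_mem {P s} hP hs := by
    refine ⟨hP, fun x => U.mul_mem (U.mul_mem hs (hP x.2)) (U.inv_mem hs),
      G.conj_mem (hP.trans hU) (hU hs), ?_⟩
    obtain ⟨γ, hγ, he⟩ := hc s hs
    exact (Dec.of_aut inf_le_right hγ).congr fun x hx =>
      (he x hx.2).trans ((toFn_apply (conjHom P s) hx.1).trans rfl).symm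
  comp_mem {P Q φ ψ} hφ hψ h := by
    refine ⟨hφ.1, fun x => hψ.2.1 _, G.comp_mem hφ.2.2.1 hψ.2.2.1 h, ?_⟩
    refine (hφ.2.2.2.comp hi hK hψ.2.2.2 fun x hx => ?_).congr fun x hx => ?_
    · exact ⟨(toFn_apply φ hx.1).symm ▸ h ⟨x, hx.1⟩, hφ.2.2.2.mem hx⟩
    · rw [toFn_apply (ψ.comp (φ.codRestrict Q h)) hx.1, toFn_apply φ hx.1,
        toFn_apply ψ (h ⟨x, hx.1⟩)]
      rfl
  inv_mem {P φ} hφ := by
    obtain ⟨ψ, hψ, hinv⟩ := G.inv_mem hφ.2.2.1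
    refine ⟨ψ, ⟨?_, fun ⟨y, x, hy⟩ => ?_, hψ, ?_⟩, hinv⟩
    · rintro _ ⟨x, rfl⟩
      exact hφ.2.1 x
    · subst hy
      rw [hinv x]
      exact hφ.1 x.2
    · refine hφ.2.2.2.inv hi hK (fun x hx => ?_) fun y hy => ?_
      · rw [toFn_apply φ hx.1, toFn_apply ψ (show φ ⟨x, hx.1⟩ ∈ φ.range from ⟨_, rfl⟩)]
        exact hinv ⟨x, hx.1⟩
      · obtain ⟨⟨x, rfl⟩, hyT⟩ := hy
        refine ⟨x, ⟨x.2, ?_⟩, toFn_coe φ x⟩
        refine (mem_inf_of_map hT (isMap_toFn hφ.2.2.1) x.2).1 ?_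
        rw [toFn_coe]
        exact hyT

theorem isMap_decSys {S₁ : Subgroup Ω} {G : FusionSystem S₁} {hi : E.IsInvariantIn F}
    {hT : G.StronglyClosed T} {K : Subgroup (MulAut T)} {hK : K ≤ F.autGroup T} {U : Subgroup Ω}
    {hU : U ≤ S₁} {hc : ∀ s ∈ U, ∃ γ ∈ K, ∀ x ∈ T, autFn γ x = s * x * s⁻¹} {P : Subgroup Ω}
    {f : Ω → Ω} : IsMap (decSys G hi hT hK U hU hc) P f ↔
      P ≤ U ∧ (∀ x ∈ P, f x ∈ U) ∧ IsMap G P f ∧ Dec E K (P ⊓ T) f := by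
  constructor
  · rintro ⟨φ, ⟨h1, h2, h3, h4⟩, e⟩
    exact ⟨h1, fun x hx => e x hx ▸ h2 ⟨x, hx⟩, ⟨φ, h3, e⟩,
      h4.congr fun x hx => (toFn_apply φ hx.1).trans (e x hx.1)⟩
  · rintro ⟨h1, h2, ⟨φ, h3, e⟩, h4⟩
    exact ⟨φ, ⟨h1, fun x => e x x.2 ▸ h2 x x.2, h3,
      h4.congr fun x hx => ((toFn_apply φ hx.1).trans (e x hx.1)).symm⟩, e⟩

/-- Powers of an automorphism of `T` inducing a map of `E` on `Q` induce maps of `E` on `Q`. -/
theorem isMap_pow (hi : E.IsInvariantIn F) {Q : Subgroup Ω} (hQ : Q ≤ T) {β : MulAut T}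
    (hβ : β ∈ F.autGroup T) (hm : IsMap E Q (autFn β)) : ∀ n : ℕ, IsMap E Q (autFn (β ^ n)) := by
  intro n
  induction n with
  | zero =>
    refine (IsMap.id hQ).congr fun x hx => ?_
    rw [pow_zero, autFn_apply _ (hQ hx)]
    rfl
  | succ n ih =>
    obtain ⟨k, hk, hke⟩ := transport_map hi hQ ih hβ
    refine (hm.comp hk fun x hx => ((mem_autGroup_iff hi.2.1.1).1 hβ).mem_img hx).congr fun x hx => ?_
    rw [hke x hx, pow_succ', FusionCrit.autFn_mul _ _ (hQ hx)]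

variable [Fact p.Prime]

/-- An automorphism of `T` inducing a map of `E` on an `E`-centric subgroup is a `p`-element modulo `Aut_E(T)`. -/
theorem exists_pow_mem [Finite S] (hS : IsPGroup p S) (hEs : E.IsSaturated p) (hi : E.IsInvariantIn F)
    {Q : Subgroup Ω} (hQ : E.IsCentric Q) {β : MulAut T} (hβ : β ∈ F.autGroup T)
    (hm : IsMap E Q (autFn β)) : ∃ k, β ^ p ^ k ∈ E.autGroup T := by
  have : Finite T := finite_of_le hi.2.1.1
  have := finite_mulAut (le_refl T)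
  obtain ⟨k, hk⟩ := FusionChain.exists_pow_coprime p β
  exact ⟨k, FusionCrit.mem_of_restrict hS hEs hi hQ (pow_mem hβ _) hk
    (by rw [pow_orderOf_eq_one]; exact one_mem _) (isMap_pow hi hQ.1 hβ hm _)⟩

/-- The factor of a decomposition on an `E`-centric subgroup is determined modulo a subgroup of index prime to `p`. -/
theorem mem_of_dec [Finite S] (hS : IsPGroup p S) (hEs : E.IsSaturated p) (hi : E.IsInvariantIn F)
    {K K' : Subgroup (MulAut T)} (hK : K ≤ F.autGroup T) (hle : K' ≤ K) (hB : E.autGroup T ≤ K')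
    (hp' : ∀ a ∈ K, ∀ k : ℕ, a ^ p ^ k ∈ K' → a ∈ K') {Q : Subgroup Ω} (hQ : E.IsCentric Q)
    {f g : Ω → Ω} {γ : MulAut T} (hγ : γ ∈ K) (hg : IsMap E Q g)
    (he : ∀ x ∈ Q, f x = autFn γ (g x)) (hd : Dec E K' Q f) : γ ∈ K' := by
  obtain ⟨γ', hγ', g', hg', he'⟩ := hd
  obtain ⟨j, hj, hjl, -⟩ := hg.isIso.symm
  have hδ : γ'⁻¹ * γ ∈ K := mul_mem (inv_mem (hle hγ')) hγ
  have hm : IsMap E (img g Q) (autFn (γ'⁻¹ * γ)) := by
    refine (hj.1.comp hg' fun y hy => hj.mem hy).congr fun y hy => ?_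
    obtain ⟨x, hx, rfl⟩ := (hg.mem_img_iff le_rfl).1 hy
    rw [hjl x hx, FusionCrit.autFn_mul _ _ (hg.mem hx), ← he x hx, he' x hx,
      FusionCrit.autFn_inv_self γ' (hg'.mem hx)]
  obtain ⟨k, hk⟩ := exists_pow_mem hS hEs hi
    (FusionCrit.isCentric_of_isConj hQ (isConj_iff.2 ⟨g, hg.isIso⟩)) (hK hδ) hm
  have h1 := mul_mem hγ' (hp' _ hδ k (hB hk))
  rwa [mul_inv_cancel_left] at h1

omit [Fact p.Prime]

variable {S₁ : Subgroup Ω} {G : FusionSystem S₁}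

/-- If `P ⊓ T` is not centric in `E`, some image of `P` is normalized by an element of `T` outside it that
centralizes its intersection with `T`. -/
theorem exists_bad [Finite S₁] [Fact p.Prime] (hS : IsPGroup p S₁) (hG : G.IsSaturated p)
    (hT : G.StronglyClosed T) (hsub : E.IsSubsystemOf G) {P : Subgroup Ω} (hP : P ≤ S₁)
    (hbad : ¬ E.IsCentric (P ⊓ T)) :
    ∃ h x, IsMap G P h ∧ x ∈ T ∧ x ∈ normalizerIn S₁ (img h P) ∧ x ∉ img h P ∧
      ∀ z ∈ img h P, z ∈ T → x * z * x⁻¹ = z := by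
  have hTS : T ≤ S₁ := hT.1
  set V := P ⊓ T with hV
  have hVS : V ≤ S₁ := inf_le_left.trans hP
  obtain ⟨X, hX, hXC⟩ : ∃ X, E.IsConj V X ∧ ¬ centralizerIn T X ≤ X := by
    by_contra hall
    exact hbad ⟨inf_le_right, fun X hX => not_not.1 fun hn => hall ⟨X, hX, hn⟩⟩
  obtain ⟨c, hc, hcX⟩ := SetLike.not_le_iff_exists.1 hXC
  obtain ⟨V₀, h, hV₀, hh, hhV, -⟩ := exists_fullyNormalized_map hS hG hVS
  have := finite_of_le hVS
  have hPN : P ≤ normalizerIn S₁ V := fun y hy => mem_normalizerIn_of_conj (hP hy) fun z hz =>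
    ⟨P.mul_mem (P.mul_mem hy hz.1) (P.inv_mem hy), FusionChain.conj_mem_of_stronglyClosed hT (hP hy) hz.2⟩
  have hhP : IsMap G P h := hh.mono hPN
  set R₀ := img h P with hR₀
  have hR₀T : ∀ z ∈ R₀, z ∈ T → z ∈ V₀ := by
    intro z hz hzT
    obtain ⟨y, hy, rfl⟩ := (hhP.mem_img_iff le_rfl).1 hz
    rw [← hhV]
    exact hhP.mem_img ⟨hy, (mem_inf_of_map hT hhP hy).1 hzT⟩
  have hV₀R : V₀ ≤ R₀ := by
    rw [← hhV]
    exact hhP.img_le inf_le_left fun z hz => hhP.mem_img hz.1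
  have hV₀T : V₀ ≤ T := by
    rw [← hhV]
    exact hhP.img_le inf_le_left fun z hz => isMap_mem_of_stronglyClosed hT hhP hz.1 hz.2
  -- the centralizer of `V₀` in `T` is not inside `V₀`
  obtain ⟨d, hd, hdV⟩ : ∃ d ∈ centralizerIn T V₀, d ∉ V₀ := by
    obtain ⟨e, he⟩ := isConj_iff.1 hX
    obtain ⟨ei, hei, -, -⟩ := (FusionNormal.isIso_of_sub hsub he).symm
    have hiso : IsIso G X V₀ (fun y => h (ei y)) :=
      hei.trans ⟨hhP.mono inf_le_left, hhV⟩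
    obtain ⟨u, hu, hue⟩ := (isReceptive_iff.1 (receptive_of_fullyNormalized hS hG hV₀)).2 X _ hiso
    have hcS : c ∈ centralizerIn S₁ X := mem_centralizerIn.2 ⟨hTS hc.1, (mem_centralizerIn.1 hc).2⟩
    have hcN := centralizerIn_le_Nx S₁ X (fun y => h (ei y)) hcS
    have hXN := le_Nx hiso.1
    have huX : img u X = V₀ := (img_congr hue).trans hiso.2
    refine ⟨u c, ⟨isMap_mem_of_stronglyClosed hT hu hcN hc.1,
      (map_centralizerIn hu hXN huX hcN hcS).2⟩, fun hcm => ?_⟩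
    rw [← huX] at hcm
    obtain ⟨y, hy, hye⟩ := (hu.mem_img_iff hXN).1 hcm
    exact hcX (hu.inj (hXN hy) hcN hye ▸ hy)
  have hR₀S : R₀ ≤ S₁ := hhP.img_le_S
  have hnorm : ∀ r ∈ R₀, ∀ v ∈ centralizerIn T V₀, r * v * r⁻¹ ∈ centralizerIn T V₀ := by
    intro r hr v hv
    refine mem_centralizerIn_of_conj (FusionChain.conj_mem_of_stronglyClosed hT (hR₀S hr) hv.1) fun z hz => ?_
    have hz' : r⁻¹ * z * r ∈ V₀ := hR₀T _ (R₀.mul_mem (R₀.mul_mem (R₀.inv_mem hr) (hV₀R hz)) hr)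
      (by simpa using FusionChain.conj_mem_of_stronglyClosed hT (S₁.inv_mem (hR₀S hr)) (hV₀T hz))
    calc r * v * r⁻¹ * z * (r * v * r⁻¹)⁻¹ = r * (v * (r⁻¹ * z * r) * v⁻¹) * r⁻¹ := by group
      _ = z := by rw [centralizerIn_conj hv hz']; group
  have hlt : R₀ < R₀ ⊔ centralizerIn T V₀ :=
    left_lt_sup.2 fun hle => hdV (hR₀T d (hle hd) hd.1)
  have hMS : R₀ ⊔ centralizerIn T V₀ ≤ S₁ := sup_le hR₀S (inf_le_left.trans hTS)
  obtain ⟨w, hw, hwR⟩ := SetLike.exists_of_lt (lt_normalizerIn hS hMS hlt)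
  obtain ⟨r, hr, v, hv, rfl⟩ := FusionNormalCent.exists_eq_mul hnorm hw.1
  refine ⟨h, v, hhP, hv.1, ?_, fun hvR => hwR (R₀.mul_mem hr hvR), fun z hz hzT => ?_⟩
  · have h1 := mul_mem (inv_mem (le_normalizerIn hR₀S hr))
      (show r * v ∈ normalizerIn S₁ R₀ from ⟨hMS hw.1, hw.2⟩)
    rwa [inv_mul_cancel_left] at h1
  · exact centralizerIn_conj hv (hR₀T z hz hzT)

/-- Conjugation by an element of `T` fixing `P ⊓ T` lies in `O_p(Aut(P))`. -/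
theorem mem_pCoreAut_of_fix [Finite S₁] [Fact p.Prime] (hS : IsPGroup p S₁) (hT : G.StronglyClosed T)
    {P : Subgroup Ω} (hP : P ≤ S₁) {x : Ω} (hx : x ∈ T) (hxN : x ∈ normalizerIn S₁ P)
    (hfix : ∀ z ∈ P, z ∈ T → x * z * x⁻¹ = z) : normConj S₁ P ⟨x, hxN⟩ ∈ pCoreAut G p P := by
  have hk : normConj S₁ P ⟨x, hxN⟩ ∈ G.autGroup P :=
    autInducedBy_le_autGroup G le_rfl hP (range_normConj S₁ P ▸ ⟨_, rfl⟩)
  refine mem_pCoreAut_of_chain hS hP 2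
    (fun i => if i = 0 then ⊥ else if i = 1 then T.subgroupOf P else ⊤) rfl rfl
    (fun i hi => ?_) (fun a ha i _ z hz => ?_) hk fun i hi z hz => ?_
  · interval_cases i
    · exact bot_le
    · exact le_top
  · split_ifs at hz ⊢ with h0 h1
    · rw [Subgroup.mem_bot.1 hz, map_one]
      exact one_mem _
    · show ((a z : P) : Ω) ∈ T
      rw [← autFn_apply a z.2]
      exact isMap_mem_of_stronglyClosed hT ((mem_autGroup_iff hP).1 ha) z.2 hz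
    · exact Subgroup.mem_top _
  · interval_cases i
    · have hz' : (z : Ω) ∈ T := hz
      show z⁻¹ * normConj S₁ P ⟨x, hxN⟩ z ∈ (⊥ : Subgroup P)
      rw [Subgroup.mem_bot, inv_mul_eq_one]
      exact Subtype.ext (hfix z z.2 hz').symm
    · show (z : Ω)⁻¹ * (x * z * x⁻¹) ∈ T
      have h1 := T.mul_mem (FusionChain.conj_mem_of_stronglyClosed hT (S₁.inv_mem (hP z.2)) hx) (T.inv_mem hx)
      simpa [mul_assoc] using h1

/-- The intersection of a centric radical subgroup with `T` is centric in `E`. -/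
theorem isCentric_inf_of_radical [Finite S₁] [Fact p.Prime] (hS : IsPGroup p S₁) (hG : G.IsSaturated p)
    (hT : G.StronglyClosed T) (hsub : E.IsSubsystemOf G) {R : Subgroup Ω} (hc : G.IsCentric R)
    (hr : G.IsRadical p R) : E.IsCentric (R ⊓ T) := by
  by_contra hbad
  obtain ⟨h, x, hh, hxT, hxN, hxR, hfix⟩ := exists_bad hS hG hT hsub hc.1 hbad
  have hR₀S : img h R ≤ S₁ := hh.img_le_S
  obtain ⟨i, hi, hil, hir⟩ := hh.isIso.symm
  have hk := FusionCrit.congr_mem_pCoreAut hi (mem_pCoreAut_of_fix hS hT hR₀S hxT hxN hfix)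
  obtain ⟨r, hr'⟩ := (isRadical_iff.1 hr).2 ▸ hk
  have hC : centralizerIn S₁ (img h R) ≤ img h R :=
    centralizerIn_le_of_centric (FusionCrit.isCentric_of_isConj hc (isConj_iff.2 ⟨h, hh.isIso⟩))
  refine hxR ?_
  have hhr : h r ∈ img h R := hh.mem_img r.2
  have hcx : (h r)⁻¹ * x ∈ centralizerIn S₁ (img h R) := by
    refine mem_centralizerIn_of_conj (S₁.mul_mem (S₁.inv_mem (hR₀S hhr)) hxN.1) fun y hy => ?_
    obtain ⟨z, hz, rfl⟩ := (hh.mem_img_iff le_rfl).1 hy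
    have h1 := congr_apply_coe hi (normConj S₁ (img h R) ⟨x, hxN⟩) ⟨h z, hy⟩
    rw [← DFunLike.congr_fun hr' _] at h1
    have h2 : (r : Ω) * z * (r : Ω)⁻¹ = i (x * h z * x⁻¹) := by
      have e : (hi.equiv ⟨h z, hy⟩ : Ω) = z := hil z hz
      refine Eq.trans ?_ h1
      show (r : Ω) * z * (r : Ω)⁻¹ = (r : Ω) * (hi.equiv ⟨h z, hy⟩ : R) * (r : Ω)⁻¹
      rw [e]
    have h3 : h r * h z * (h r)⁻¹ = x * h z * x⁻¹ := by
      rw [← hh.map_conj r.2 hz, h2, hir _ (normalizerIn_conj hxN hy)]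
    calc (h r)⁻¹ * x * h z * ((h r)⁻¹ * x)⁻¹ = (h r)⁻¹ * (x * h z * x⁻¹) * h r := by group
      _ = h z := by rw [← h3]; group
  have := (img h R).mul_mem hhr (hC hcx)
  rwa [mul_inv_cancel_left] at this

/-- Modulo a normal subgroup of `Aut(T)` containing `Aut_S(T)`, every automorphism of `T` comes from `S`. -/
theorem exists_top_class [Finite S₁] [Fact p.Prime] (hS : IsPGroup p S₁) (hG : G.IsSaturated p)
    (hT : G.StronglyClosed T) {K' : Subgroup (MulAut T)} (hle : K' ≤ G.autGroup T)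
    (hn : ∀ a ∈ G.autGroup T, ∀ k ∈ K', a * k * a⁻¹ ∈ K') (hsyl : autInducedBy S₁ T ≤ K')
    {γ : MulAut T} (hγ : γ ∈ G.autGroup T) :
    ∃ β ∈ G.autGroup S₁, ∃ a ∈ K', ∀ x ∈ T, autFn β x = autFn (a * γ) x := by
  have := finite_mulAut hT.1
  have hTn := FusionNormalCent.fullyNormalized_strongly hT
  have hA := (isFullyAutomized_iff.1 (fullyAutomized_of_fullyNormalized hS hG hTn)).2
  obtain ⟨a, ha, hac⟩ := (hA.mono hsyl hle).exists_conj_le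
    ((isPGroup_autInducedBy hS).map (MulAut.conj γ).toMonoidHom)
    (by rintro _ ⟨b, hb, rfl⟩; exact hn γ hγ b (hsyl hb))
  have hN : normalizerIn S₁ T = S₁ := le_antisymm inf_le_left fun s hs =>
    haveI := finite_of_le hT.1
    mem_normalizerIn_of_conj hs fun x hx => FusionChain.conj_mem_of_stronglyClosed hT hs hx
  have hag : a * γ ∈ G.autGroup T := mul_mem (hle ha) hγ
  obtain ⟨f, hf, hfe⟩ := exists_extension (receptive_of_fullyNormalized hS hG hTn) hag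
    (M := normalizerIn S₁ T) le_rfl fun y hy => by
      have hb : normConj S₁ T ⟨y, hy⟩ ∈ autInducedBy S₁ T := range_normConj S₁ T ▸ ⟨_, rfl⟩
      have := hac _ ⟨_, hb, rfl⟩
      simpa [mul_assoc] using this
  have hsup : S₁ ≤ T ⊔ normalizerIn S₁ T := hN.symm.le.trans le_sup_right
  have hfS := hf.mono hsup
  obtain ⟨β, hβ, hβe⟩ := exists_aut_of_isIso (show IsIso G S₁ S₁ f from
    ⟨hfS, eq_of_le_of_card le_rfl hfS.img_le_S (hfS.card_img le_rfl).ge⟩)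
  refine ⟨β, hβ, a, ha, fun x hx => ?_⟩
  rw [autFn_apply β (hT.1 hx), hβe, ← hfe x hx]

end Cfsg.Agent.FusionEnvelope
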