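import Cfsg.Agent.EqLemmas
import Cfsg.Agent.Lib.FusionProduct.NormalTools
import Cfsg.Agent.Lib.FusionIso.ComponentConj
import Cfsg.Agent.Lib.FusionResidual.Transport
import Cfsg.Agent.Lib.FusionPIndex.Existence
import Cfsg.Agent.Lib.FusionCrit.PrimeIndex

/-
Subsystems of index prime to `p` coming from invariant subsystems, and composition of invariance with a subsystem
of `p`-power index.
Main results: `primeIndex_of_invariant`, `invariant_comp_pPowerIndex`.
-/

set_option autoImplicit false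

namespace Cfsg.Agent.FusionEnvelope

open Cfsg Cfsg.FusionSystem Cfsg.Agent.Fusion Cfsg.Agent.FusionNormal Cfsg.Agent.FusionProduct

variable {Ω : Type*} [Group Ω] {S U : Subgroup Ω} {p : ℕ} [Fact p.Prime]

/-- A subsystem invariant in an overgroup system has index prime to `p` in every saturated system between them
over the same subgroup. -/
theorem primeIndex_of_invariant [Finite U] (hU : IsPGroup p U) {Y : FusionSystem S} {X D : FusionSystem U}
    (hD : D.IsSaturated p) (hXD : X.IsSubsystemOf D) (hDY : D.IsSubsystemOf Y) (hi : X.IsInvariantIn Y) :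
    X.HasPrimeToPIndexIn D p := by
  refine ⟨hXD, fun P hP => ?_⟩
  rw [FusionCrit.ppAut_eq_map, FusionCrit.ppAut, Subgroup.closure_le]
  rintro α ⟨hα, k, hk⟩
  obtain ⟨R, f, hR, hf, hfR, -⟩ := exists_fullyNormalized_map hU hD hP
  have hiso : IsIso D P R f := ⟨hf.mono (le_normalizerIn hP), hfR⟩
  have hisoY : IsIso Y P R f := FusionNormal.isIso_of_sub hDY hiso
  rw [SetLike.mem_coe, ← congr_mem_autGroup_iff hi hisoY hP]
  have hα' := Fusion.congr_mem_autGroup hiso hα
  have := finite_mulAut hR.1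
  have := finite_mulAut hP
  have hp : IsPGroup p (Subgroup.zpowers α) :=
    IsPGroup.of_card (n := k) ((Nat.card_zpowers α).trans hk)
  obtain ⟨a, ha, hac⟩ := (isFullyAutomized_iff.1 (fullyAutomized_of_fullyNormalized hU hD hR)).2.exists_conj_le
    (hp.map (MulAut.congr hiso.equiv).toMonoidHom) (by
      rintro _ ⟨b, hb, rfl⟩
      exact Fusion.congr_mem_autGroup hiso (Subgroup.zpowers_le.2 hα hb))
  have h1 : a * MulAut.congr hiso.equiv α * a⁻¹ ∈ X.autGroup R :=
    autInducedBy_le_autGroup X le_rfl hR.1 (hac _ ⟨α, Subgroup.mem_zpowers α, rfl⟩)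
  have h2 := conj_mem_autGroup hi hR.1 (inv_mem (FusionNormal.autGroup_le_of_sub hDY hR.1 ha)) h1
  have e : a⁻¹ * (a * MulAut.congr hiso.equiv α * a⁻¹) * a⁻¹⁻¹ = MulAut.congr hiso.equiv α := by group
  rwa [e] at h2

/-- Invariance composes with a subsystem of `p`-power index over a strongly closed subgroup. -/
theorem invariant_comp_pPowerIndex [Finite S] {S₁ : Subgroup Ω} (hS : IsPGroup p S) {F : FusionSystem S}
    {G : FusionSystem S₁} (hG : G.IsWeaklyNormalIn F p) (hU₁ : U ≤ S₁) {X : FusionSystem U}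
    (hX : X.IsSaturated p) (hXi : X.HasPPowerIndexIn G p) (hXG : X.IsInvariantIn G)
    (hUF : F.StronglyClosed U) : X.IsWeaklyNormalIn F p := by
  obtain ⟨-, hF, hGi⟩ := hG
  have hUS : U ≤ S := hUF.1
  have hS₁ : S₁ ≤ S := hGi.2.1.1
  have : Finite S₁ := finite_of_le hS₁
  have : Finite U := finite_of_le hUS
  have hsub : X.IsSubsystemOf F := fun P φ hφ => hGi.1 P (hXi.1 P hφ)
  -- automorphisms of `S₁` act on `X`
  have key : ∀ a ∈ F.autGroup S₁, ∀ P f, IsMap X P f →
      ∃ g, IsMap X (img (autFn a) P) g ∧ ∀ x ∈ P, g (autFn a x) = autFn a (f x) := by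
    intro a ha P f hf
    set e := FusionIso.invariantAutIso hGi ha
    have hm : IsMap F S₁ (autFn a) := (mem_autGroup_iff hS₁).1 ha
    have hU' : U = e.im U := by
      refine (eq_of_le_of_card hUS (hm.img_le hU₁ fun x hx => ?_) (hm.card_img hU₁).ge).symm
      exact (Fusion.stronglyClosed_iff.1 hUF).2 S₁ (autFn a) hm x (hU₁ hx) hx
    have heq : e.pullSub hU₁ hU' X = X :=
      FusionPIndex.pPowerIndex_unique (hS.to_le hUS) ((e.subIso hU₁ hU' X).symm.isSaturated hX)
        (FusionResidual.pPowerIndex_pullSub e hU₁ hU' hXi) hX hXi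
    have h1 : IsMap (e.pullSub hU₁ hU' X) P f := by rw [heq]; exact hf
    refine ⟨e.fn f, (e.isMap_pullSub_iff hU₁ hU' X hf.le fun x hx => hf.mem hx).1 h1, fun x hx => ?_⟩
    exact e.fn_apply f (hU₁ (hf.le hx))
  have hrestrict : ∀ a ∈ F.autGroup S₁, ∃ b ∈ F.autGroup U, ∀ x ∈ U, autFn b x = autFn a x := by
    intro a ha
    have hm : IsMap F S₁ (autFn a) := (mem_autGroup_iff hS₁).1 ha
    obtain ⟨b, hb, hbe⟩ := exists_aut_of_isIso (show IsIso F U U (autFn a) from ⟨hm.mono hU₁,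
      eq_of_le_of_card hUS (hm.img_le hU₁ fun x hx =>
        (Fusion.stronglyClosed_iff.1 hUF).2 S₁ (autFn a) hm x (hU₁ hx) hx) (hm.card_img hU₁).ge⟩)
    exact ⟨b, hb, fun x hx => (autFn_apply b hx).trans (hbe ⟨x, hx⟩)⟩
  refine ⟨hX, hF, isInvariantIn_of_fn hsub hUF (fun P f hP hf α hα => ?_) fun P f hP hf => ?_⟩
  · have hm : IsMap F U (autFn α) := (mem_autGroup_iff hUS).1 hα
    obtain ⟨a, ha, g₀, hg₀, hae⟩ := frattini_map hGi hU₁ hm
    have hgU : ∀ x ∈ U, g₀ x ∈ U := fun x hx =>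
      (Fusion.stronglyClosed_iff.1 hUF).2 U g₀ (FusionNormal.isMap_of_sub hGi.1 hg₀) x hx hx
    obtain ⟨c, hc, hce⟩ := exists_aut_of_isIso (show IsIso G U U g₀ from
      ⟨hg₀, eq_of_le_of_card hU₁ (hg₀.img_le le_rfl hgU) (hg₀.card_img le_rfl).ge⟩)
    have hcg : ∀ x ∈ U, autFn c x = g₀ x := fun x hx => (autFn_apply c hx).trans (hce ⟨x, hx⟩)
    obtain ⟨g, hg, hge⟩ := transport_map hXG hP hf hc
    obtain ⟨g', hg', hge'⟩ := key a ha _ g hg
    refine ⟨g', hg'.mono ?_, fun x hx => ?_⟩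
    · refine hm.img_le hP fun x hx => ?_
      rw [hae x (hP hx), ← hcg x (hP hx)]
      exact ((mem_autGroup_iff hS₁).1 ha).mem_img (((mem_autGroup_iff hU₁).1 hc).mem_img hx)
    · rw [hae x (hP hx), ← hcg x (hP hx), hge' _ (((mem_autGroup_iff hU₁).1 hc).mem_img hx), hge x hx,
        hcg _ (hf.mem hx), ← hae _ (hf.mem hx)]
  · obtain ⟨a, ha, g₀, hg₀, hae⟩ := frattini_map hGi (hP.trans hU₁) hf
    obtain ⟨c, hc, f₀, hf₀, hce⟩ := frattini_map hXG hP hg₀
    obtain ⟨b, hb, hbe⟩ := hrestrict a ha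
    refine ⟨b * c, mul_mem hb (FusionNormal.autGroup_le_of_sub hGi.1 hU₁ hc), f₀, hf₀, fun x hx => ?_⟩
    rw [hae x hx, hce x hx, FusionCrit.autFn_mul _ _ (hf₀.mem hx), hbe _ (autFn_mem c (hf₀.mem hx))]

end Cfsg.Agent.FusionEnvelope
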