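import Cfsg.Agent.EqLemmas
import Cfsg.Agent.Lib.FusionEnvelope.Index
import Cfsg.Agent.Lib.FusionCrit.NormalResidual
import Cfsg.Agent.Lib.FusionPIndex.Normal
import Cfsg.Agent.S5124
import Cfsg.Agent.S5203

/-
Existence of residual limits and their invariance under passing to subsystems of index prime to `p` or of `p`-power
index.
Main results: `residual_of_primeIndex`, `exists_limit`, `exists_common`, `SameLimit`, `SameLimit.trans`,
`sameLimit_of_primeIndex`, `sameLimit_of_pPowerIndex`, `limit_sub`.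
-/

set_option autoImplicit false

namespace Cfsg.Agent.FusionEnvelope

open Cfsg Cfsg.FusionSystem Cfsg.Agent.Fusion Cfsg.Agent.FusionNormal

variable {Ω : Type*} [Group Ω] {p : ℕ} [Fact p.Prime]

omit [Fact p.Prime] in
theorem ppAut_le_of_primeIndex {S : Subgroup Ω} {X Y : FusionSystem S} (hX : X.HasPrimeToPIndexIn Y p)
    {P : Subgroup Ω} (hP : P ≤ S) : FusionCrit.ppAut Y p P ≤ FusionCrit.ppAut X p P := by
  rw [FusionCrit.ppAut, Subgroup.closure_le]
  rintro α ⟨hα, k, hk⟩
  refine Subgroup.subset_closure ⟨hX.2 P hP ?_, k, hk⟩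
  rw [FusionCrit.ppAut_eq_map]
  exact Subgroup.subset_closure ⟨hα, k, hk⟩

omit [Fact p.Prime] in
/-- A subsystem of index prime to `p` has the same `p'`-residual. -/
theorem residual_of_primeIndex {S : Subgroup Ω} {X Y R : FusionSystem S} (hX : X.IsSaturated p)
    (hXi : X.HasPrimeToPIndexIn Y p) (hR : Y.IsPPrimeResidual p R) : X.IsPPrimeResidual p R := by
  refine ⟨hR.1, ⟨hR.2.2 X hX hXi, fun P hP => ?_⟩, fun D hD hDi => hR.2.2 D hD
    ⟨fun P φ hφ => hXi.1 P (hDi.1 P hφ), fun P hP => ?_⟩⟩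
  · rw [FusionCrit.ppAut_eq_map, FusionCrit.ppAut, Subgroup.closure_le]
    rintro α ⟨hα, k, hk⟩
    refine hR.2.1.2 P hP ?_
    rw [FusionCrit.ppAut_eq_map]
    exact Subgroup.subset_closure ⟨FusionNormal.autGroup_le_of_sub hXi.1 hP hα, k, hk⟩
  · have h := hDi.2 P hP
    rw [FusionCrit.ppAut_eq_map] at h ⊢
    exact (ppAut_le_of_primeIndex hXi hP).trans h

theorem exists_residual {S : Subgroup Ω} [Finite S] (hS : IsPGroup p S) {Y : FusionSystem S}
    (hY : Y.IsSaturated p) : ∃ R, Y.IsPPrimeResidual p R :=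
  ⟨_, FusionCrit.isPPrimeResidual_genSys hS hY⟩

/-- A `p'`-residual system has a residual limit. -/
theorem exists_limit_self : ∀ (n : ℕ) {S : Subgroup Ω} [Finite S], IsPGroup p S → Nat.card S = n →
    ∀ R : FusionSystem S, R.IsSaturated p → R.IsPPrimeResidual p R →
      ∃ (V : Subgroup Ω) (L : FusionSystem V), L.IsResidualLimitOf R p := by
  intro n
  induction n using Nat.strong_induction_on with
  | _ n ih =>
    intro S _ hS hn R hR hRR
    by_cases hU : R.hyperfocalSubgroup p = S
    · exact ⟨S, R, IsResidualLimitOf.stable R p hU hRR⟩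
    have hle : R.hyperfocalSubgroup p ≤ S := FusionNormal.hyperfocal_le R
    have : Finite (R.hyperfocalSubgroup p : Subgroup Ω) := finite_of_le hle
    obtain ⟨D, hD, hDi⟩ := FusionPIndex.exists_pPowerIndex hS hR hle le_rfl
    obtain ⟨D', hD'⟩ := exists_residual (hS.to_le hle) hD
    have hlt : Nat.card (R.hyperfocalSubgroup p : Subgroup Ω) < n :=
      hn ▸ FusionCrit.card_lt le_rfl (lt_of_le_of_ne hle hU)
    obtain ⟨V, L, hL⟩ := ih _ hlt (hS.to_le hle) rfl D' hD'.1
      (residual_of_primeIndex hD'.1 hD'.2.1 hD')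
    exact ⟨V, L, IsResidualLimitOf.step R p D D' ⟨hD, hDi⟩ hD' hL⟩

/-- Every saturated system has a residual limit. -/
theorem exists_limit {S : Subgroup Ω} [Finite S] (hS : IsPGroup p S) {Y : FusionSystem S}
    (hY : Y.IsSaturated p) : ∃ (V : Subgroup Ω) (L : FusionSystem V), L.IsResidualLimitOf Y p := by
  have hle : Y.hyperfocalSubgroup p ≤ S := FusionNormal.hyperfocal_le Y
  have : Finite (Y.hyperfocalSubgroup p : Subgroup Ω) := finite_of_le hle
  obtain ⟨D, hD, hDi⟩ := FusionPIndex.exists_pPowerIndex hS hY hle le_rfl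
  obtain ⟨D', hD'⟩ := exists_residual (hS.to_le hle) hD
  obtain ⟨V, L, hL⟩ := exists_limit_self _ (hS.to_le hle) rfl D' hD'.1
    (residual_of_primeIndex hD'.1 hD'.2.1 hD')
  exact ⟨V, L, IsResidualLimitOf.step Y p D D' ⟨hD, hDi⟩ hD' hL⟩

/-- A system and its `p'`-residual have a common residual limit. -/
theorem exists_common : ∀ (n : ℕ) {S : Subgroup Ω} [Finite S], IsPGroup p S → Nat.card S = n →
    ∀ Y R : FusionSystem S, Y.IsSaturated p → Y.IsPPrimeResidual p R →
      ∃ (V : Subgroup Ω) (L : FusionSystem V), L.IsResidualLimitOf R p ∧ L.IsResidualLimitOf Y p := by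
  intro n
  induction n using Nat.strong_induction_on with
  | _ n ih =>
    intro S _ hS hn Y R hY hR
    by_cases hU : Y.hyperfocalSubgroup p = S
    · obtain ⟨V, L, hL⟩ := exists_limit hS hR.1
      exact ⟨V, L, hL, S5203.limit_step Y hU Y R hY (FusionPIndex.pPowerIndex_self Y) hR hL⟩
    set U := Y.hyperfocalSubgroup p with hUdef
    have hUS : U ≤ S := FusionNormal.hyperfocal_le Y
    have : Finite U := finite_of_le hUS
    have hUY : Y.StronglyClosed U := S5124.result p hS Y hY
    have hRY : R.IsWeaklyNormalIn Y p := by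
      rw [S5203.pPrimeResidual_unique hR (FusionCrit.isPPrimeResidual_genSys hS hY)]
      exact (FusionCrit.isNormalIn_genSys hS (FusionProduct.isWeaklyNormalIn_self hY)).1
    have hUR : R.hyperfocalSubgroup p ≤ U := FusionNormal.hyperfocal_mono hR.2.1.1 le_rfl
    have hUn : (U.subgroupOf S).Normal := ⟨fun x hx g =>
      FusionChain.conj_mem_of_stronglyClosed hUY g.2 hx⟩
    obtain ⟨X, hX, hXi⟩ := FusionPIndex.exists_pPowerIndex hS hR.1 hUS hUR
    obtain ⟨D, hD, hDi⟩ := FusionPIndex.exists_pPowerIndex hS hY hUS le_rfl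
    obtain ⟨D', hD'⟩ := exists_residual (hS.to_le hUS) hD
    have hXY : X.IsSubsystemOf Y := fun P φ hφ => hR.2.1.1 P (hXi.1 P hφ)
    have hXR := FusionPIndex.isNormalIn_pPowerIndex hS hR.1 hUS hUn hUR hX hXi
    have hXD : X.IsSubsystemOf D :=
      FusionNormal.isSubsystemOf_of_pPowerIndex (hS.to_le hUS) hX hXY hDi le_rfl
    have hpi := primeIndex_of_invariant (hS.to_le hUS) hD hXD hDi.1
      (invariant_comp_pPowerIndex hS hRY hUS hX hXi hXR.1.2.2 hUY).2.2
    obtain ⟨V, L, hL, hLX⟩ := ih _ (hn ▸ FusionCrit.card_lt le_rfl (lt_of_le_of_ne hUS hU))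
      (hS.to_le hUS) rfl X D' hX (residual_of_primeIndex hX hpi hD')
    exact ⟨V, L, S5203.limit_lift hLX hX hXi (hyperfocal_eq_of_pPowerIndex hS hXR.1.2.2.2.1 hXi),
      IsResidualLimitOf.step Y p D D' ⟨hD, hDi⟩ hD' hL⟩

/-- Two systems whose residual limits have the same maps. -/
def SameLimit {A B : Subgroup Ω} (X : FusionSystem A) (Y : FusionSystem B) (p : ℕ) : Prop :=
  ∀ (V : Subgroup Ω) (L : FusionSystem V), L.IsResidualLimitOf X p →
    ∀ (V' : Subgroup Ω) (L' : FusionSystem V'), L'.IsResidualLimitOf Y p → ∀ P, L.Hom P = L'.Hom P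

theorem sameLimit_refl {A : Subgroup Ω} [Finite A] (hA : IsPGroup p A) {X : FusionSystem A}
    (hX : X.IsSaturated p) : SameLimit X X p := fun _ _ hL _ _ hL' =>
  S5203.limit_unique hL' Fact.out inferInstance hA hX hL

theorem SameLimit.trans {A B C : Subgroup Ω} [Finite B] (hB : IsPGroup p B) {X : FusionSystem A}
    {Y : FusionSystem B} {Z : FusionSystem C} (hY : Y.IsSaturated p) (h : SameLimit X Y p)
    (h' : SameLimit Y Z p) : SameLimit X Z p := fun V L hL V' L' hL' P => by
  obtain ⟨W, M, hM⟩ := exists_limit hB hY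
  rw [h V L hL W M hM P, h' W M hM V' L' hL' P]

/-- A subsystem of index prime to `p` has the same residual limit. -/
theorem sameLimit_of_primeIndex {S : Subgroup Ω} [Finite S] (hS : IsPGroup p S) {X Y : FusionSystem S}
    (hX : X.IsSaturated p) (hY : Y.IsSaturated p) (hXi : X.HasPrimeToPIndexIn Y p) : SameLimit X Y p := by
  intro V L hL V' L' hL' P
  obtain ⟨R, hR⟩ := exists_residual hS hY
  obtain ⟨W₁, M₁, hM₁R, hM₁⟩ := exists_common _ hS rfl Y R hY hR
  obtain ⟨W₂, M₂, hM₂R, hM₂⟩ := exists_common _ hS rfl X R hX (residual_of_primeIndex hX hXi hR)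
  rw [S5203.limit_unique hM₂ Fact.out inferInstance hS hX hL P,
    S5203.limit_unique hM₁ Fact.out inferInstance hS hY hL' P,
    S5203.limit_unique hM₁R Fact.out inferInstance hS hR.1 hM₂R P]

/-- A subsystem of `p`-power index over a strongly closed subgroup has the same residual limit. -/
theorem sameLimit_of_pPowerIndex {S U : Subgroup Ω} [Finite S] (hS : IsPGroup p S) {X : FusionSystem U}
    {Y : FusionSystem S} (hX : X.IsSaturated p) (hY : Y.IsSaturated p) (hU : Y.StronglyClosed U)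
    (hXi : X.HasPPowerIndexIn Y p) : SameLimit X Y p := fun _ _ hL _ _ hL' =>
  S5203.limit_unique hL' Fact.out inferInstance hS hY
    (S5203.limit_lift hL hX hXi (hyperfocal_eq_of_pPowerIndex hS hU hXi))

omit [Fact p.Prime] in
/-- A residual limit is a subsystem. -/
theorem limit_sub {V S : Subgroup Ω} {L : FusionSystem V} {Y : FusionSystem S} {q : ℕ}
    (h : L.IsResidualLimitOf Y q) : L.IsSubsystemOf Y := by
  induction h with
  | stable F q _ _ => exact fun _ => subset_rfl
  | step F q D D' hD hD' _ ih => exact fun P φ hφ => hD.2.1 P (hD'.2.1.1 P (ih P hφ))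

end Cfsg.Agent.FusionEnvelope
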