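import Cfsg.Agent.EqLemmas
import Cfsg.Agent.Lib.FusionEnvelope.Dec
import Cfsg.Agent.Lib.FusionEnvelope.Limit

/-
The stages of the descent along a chain of normal subgroups of `Aut_F(T)` containing `Aut_E(T)`.
Main results: `conjT`, `topSub`, `Stage`, `stage_top`, `Stage.conjT_mem`, `autGroup_le_of_dec`.
-/

set_option autoImplicit false

namespace Cfsg.Agent.FusionEnvelope

open Cfsg Cfsg.FusionSystem Cfsg.Agent.Fusion Cfsg.Agent.FusionChain Cfsg.Agent.FusionNormal

variable {Ω : Type*} [Group Ω] {S S₁ T : Subgroup Ω} {F : FusionSystem S} {E : FusionSystem T} {p : ℕ}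

theorem le_normalizerIn_of_stronglyClosed [Finite S] (hT : F.StronglyClosed T) : S ≤ normalizerIn S T :=
  fun _ hs =>
    have := finite_of_le hT.1
    mem_normalizerIn_of_conj hs fun _ hx => FusionChain.conj_mem_of_stronglyClosed hT hs hx

/-- The action by conjugation on a strongly closed subgroup. -/
def conjT [Finite S] (hT : F.StronglyClosed T) : S →* MulAut T :=
  (normConj S T).comp (Subgroup.inclusion (le_normalizerIn_of_stronglyClosed hT))

theorem autFn_conjT [Finite S] (hT : F.StronglyClosed T) {s : Ω} (hs : s ∈ S) {x : Ω} (hx : x ∈ T) :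
    autFn (conjT hT ⟨s, hs⟩) x = s * x * s⁻¹ := autFn_apply _ hx

theorem conjT_mem [Finite S] (hT : F.StronglyClosed T) {s : Ω} (hs : s ∈ S) :
    conjT hT ⟨s, hs⟩ ∈ F.autGroup T :=
  (mem_autGroup_iff hT.1).2 ((IsMap.conj hT.1 hs).congr fun _ hx => (autFn_conjT hT hs hx).symm)

theorem eq_of_autFn {α β : MulAut T} (h : ∀ x ∈ T, autFn α x = autFn β x) : α = β :=
  MulEquiv.ext fun x => Subtype.ext (by
    have := h x x.2
    rwa [autFn_apply α x.2, autFn_apply β x.2] at this)

/-- The elements of `S` inducing on `T` an element of `K`. -/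
def topSub [Finite S] (hT : F.StronglyClosed T) (K : Subgroup (MulAut T)) : Subgroup Ω :=
  (K.comap (conjT hT)).map S.subtype

theorem mem_topSub [Finite S] {hT : F.StronglyClosed T} {K : Subgroup (MulAut T)} {s : Ω} :
    s ∈ topSub hT K ↔ ∃ hs : s ∈ S, conjT hT ⟨s, hs⟩ ∈ K := by
  constructor
  · rintro ⟨⟨s, hs⟩, h, rfl⟩
    exact ⟨hs, h⟩
  · rintro ⟨hs, h⟩
    exact ⟨⟨s, hs⟩, h, rfl⟩

/-- A stage of the descent: `G` is the system of the maps of `F` whose trace on `T` lies in `K`. -/
structure Stage (F : FusionSystem S) (E : FusionSystem T) (p : ℕ) (K : Subgroup (MulAut T))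
    (G : FusionSystem S₁) : Prop where
  wn : G.IsWeaklyNormalIn F p
  normal : E.IsNormalIn G p
  aut : G.autGroup T = K
  dom : ∀ s, s ∈ S₁ ↔ s ∈ S ∧ ∃ γ ∈ K, ∀ x ∈ T, autFn γ x = s * x * s⁻¹
  same : SameLimit G F p

/-- The initial stage. -/
theorem stage_top [Finite S] [Fact p.Prime] (hS : IsPGroup p S) (hF : F.IsSaturated p)
    (hE : E.IsNormalIn F p) : Stage F E p (F.autGroup T) F where
  wn := FusionProduct.isWeaklyNormalIn_self hF
  normal := hE
  aut := rfl
  dom _ := ⟨fun hs => ⟨hs, _, conjT_mem hE.1.2.2.2.1 hs, fun _ hx => autFn_conjT hE.1.2.2.2.1 hs hx⟩, fun h => h.1⟩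
  same := sameLimit_refl hS hF

namespace Stage

variable {K : Subgroup (MulAut T)} {G : FusionSystem S₁}

theorem le (st : Stage F E p K G) : S₁ ≤ S := fun s hs => ((st.dom s).1 hs).1

theorem isSub (st : Stage F E p K G) : G.IsSubsystemOf F := st.wn.2.2.1

theorem sat (st : Stage F E p K G) : G.IsSaturated p := st.wn.1

theorem invariant (st : Stage F E p K G) : E.IsInvariantIn G := st.normal.1.2.2

theorem closedT (st : Stage F E p K G) : G.StronglyClosed T := st.invariant.2.1

theorem T_le (st : Stage F E p K G) : T ≤ S₁ := st.closedT.1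

theorem le_autGroup (st : Stage F E p K G) : K ≤ F.autGroup T :=
  st.aut ▸ FusionNormal.autGroup_le_of_sub st.isSub st.T_le

theorem conjT_mem [Finite S₁] (st : Stage F E p K G) {s : Ω} (hs : s ∈ S₁) :
    conjT st.closedT ⟨s, hs⟩ ∈ K := st.aut.le (FusionEnvelope.conjT_mem st.closedT hs)

end Stage

/-- An automorphism of `T` decomposing with factor in `K ⊇ Aut_E(T)` lies in `K`. -/
theorem mem_of_dec_top {K : Subgroup (MulAut T)} (hB : E.autGroup T ≤ K) [Finite T] {α : MulAut T}
    (h : Dec E K T (autFn α)) : α ∈ K := by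
  obtain ⟨γ, hγ, g, hg, he⟩ := h
  obtain ⟨b, hb, hbe⟩ := exists_aut_of_isIso (show IsIso E T T g from
    ⟨hg, eq_of_le_of_card le_rfl hg.img_le_S (hg.card_img le_rfl).ge⟩)
  rw [show α = γ * b from eq_of_autFn fun x hx => by
    rw [he x hx, FusionCrit.autFn_mul _ _ hx, autFn_apply b hx, hbe]]
  exact mul_mem hγ (hB hb)

end Cfsg.Agent.FusionEnvelope
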