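import Cfsg.Agent.EqLemmas
import Cfsg.Agent.Lib.FusionEnvelope.Stage

/-
Composites of restrictions of maps defined on subgroups meeting `T` in an `E`-centric subgroup.
Main results: `Ch`, `Ch.mono`, `Ch.symm`, `Ch.twist`, `chSys`, `isMap_chSys`.
-/

set_option autoImplicit false

namespace Cfsg.Agent.FusionEnvelope

open Cfsg Cfsg.FusionSystem Cfsg.Agent.Fusion Cfsg.Agent.FusionChain Cfsg.Agent.FusionNormal

variable {Ω : Type*} [Group Ω] {S S₁ T : Subgroup Ω} {F : FusionSystem S} {E : FusionSystem T}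
  {D : FusionSystem S₁} {p : ℕ}

/-- Composites of restrictions of maps of `D` on subgroups whose trace on `T` is centric in `E`. -/
inductive Ch (D : FusionSystem S₁) (E : FusionSystem T) : Subgroup Ω → (Ω → Ω) → Prop
  | base {R Q : Subgroup Ω} {f : Ω → Ω} : E.IsCentric (R ⊓ T) → IsMap D R f → Q ≤ R → Ch D E Q f
  | comp {Q : Subgroup Ω} {f g : Ω → Ω} : Ch D E Q f → Ch D E (img f Q) g → Ch D E Q (fun x => g (f x))
  | congr {Q : Subgroup Ω} {f g : Ω → Ω} : Ch D E Q f → (∀ x ∈ Q, f x = g x) → Ch D E Q g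

theorem Ch.isMap {Q : Subgroup Ω} {f : Ω → Ω} (h : Ch D E Q f) : IsMap D Q f := by
  induction h with
  | base _ hf hQ => exact hf.mono hQ
  | comp _ _ ih1 ih2 => exact ih1.comp ih2 fun x hx => ih1.mem_img hx
  | congr _ e ih => exact ih.congr e

theorem Ch.mono {Q : Subgroup Ω} {f : Ω → Ω} (h : Ch D E Q f) :
    ∀ Q' : Subgroup Ω, Q' ≤ Q → Ch D E Q' f := by
  induction h with
  | base hc hf hQ => exact fun Q' h => Ch.base hc hf (h.trans hQ)
  | @comp Q f g h1 _ ih1 ih2 =>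
    intro Q' h
    exact Ch.comp (ih1 Q' h) (ih2 _ (h1.isMap.img_le h fun x hx => h1.isMap.mem_img (h hx)))
  | congr _ e ih => exact fun Q' h => (ih Q' h).congr fun x hx => e x (h hx)

theorem Ch.comp_of_le {Q Q' : Subgroup Ω} {f g : Ω → Ω} (hf : Ch D E Q f) (hg : Ch D E Q' g)
    (h : ∀ x ∈ Q, f x ∈ Q') : Ch D E Q (fun x => g (f x)) :=
  Ch.comp hf (hg.mono _ (hf.isMap.img_le le_rfl h))

theorem Ch.id (hc : E.IsCentric (S₁ ⊓ T)) {Q : Subgroup Ω} (hQ : Q ≤ S₁) : Ch D E Q (fun x => x) :=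
  Ch.base hc (IsMap.id le_rfl) hQ

variable [Finite S₁] {G : FusionSystem S₁}

theorem isCentric_inf_img (hsub : D.IsSubsystemOf G) (hi : E.IsInvariantIn G) {R : Subgroup Ω} {f : Ω → Ω}
    (hc : E.IsCentric (R ⊓ T)) (hf : IsMap D R f) : E.IsCentric (img f R ⊓ T) := by
  have hG : IsMap G R f := FusionNormal.isMap_of_sub hsub hf
  exact FusionCrit.isCentric_transport hi hc
    ⟨hG.mono inf_le_left, FusionNormalCent.map_inf_strongly hi.2.1 hG.isIso⟩

theorem Ch.symm (hsub : D.IsSubsystemOf G) (hi : E.IsInvariantIn G) {Q : Subgroup Ω} {f : Ω → Ω}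
    (h : Ch D E Q f) : ∀ g : Ω → Ω, (∀ x ∈ Q, g (f x) = x) → Ch D E (img f Q) g := by
  induction h with
  | @base R Q f hc hf hQ =>
    intro g hg
    obtain ⟨i, hi', hil, -⟩ := hf.isIso.symm
    refine (Ch.base (isCentric_inf_img hsub hi hc hf) hi'.1
      (hf.img_le hQ fun x hx => hf.mem_img (hQ hx))).congr fun y hy => ?_
    obtain ⟨x, hx, rfl⟩ := (hf.mem_img_iff hQ).1 hy
    rw [hg x hx, hil x (hQ hx)]
  | @comp Q f₁ f₂ h₁ h₂ ih₁ ih₂ =>
    intro k hk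
    obtain ⟨i, hi₁, hil, -⟩ := h₁.isMap.isIso.symm
    obtain ⟨j, hj, hjl, -⟩ := h₂.isMap.isIso.symm
    have c₁ := ih₁ i hil
    rw [(h₁.isMap.isIso.trans h₂.isMap.isIso).2]
    refine ((ih₂ j hjl).comp_of_le c₁ fun y hy => hj.mem hy).congr fun y hy => ?_
    obtain ⟨z, hz, rfl⟩ := (h₂.isMap.mem_img_iff le_rfl).1 hy
    obtain ⟨x, hx, rfl⟩ := (h₁.isMap.mem_img_iff le_rfl).1 hz
    rw [hjl _ hz, hil x hx, hk x hx]
  | @congr Q f₁ f₂ _ e ih =>
    intro g hg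
    rw [← img_congr e]
    exact ih g fun x hx => by rw [e x hx]; exact hg x hx

/-- The system of these composites. -/
def chSys (D G : FusionSystem S₁) (hsub : D.IsSubsystemOf G) (hi : E.IsInvariantIn G)
    (hc : E.IsCentric (S₁ ⊓ T)) : FusionSystem S₁ where
  Hom P := {φ | Ch D E P (toFn φ)}
  le_of_mem h := ⟨h.isMap.le, fun x => toFn_coe _ x ▸ h.isMap.mem x.2⟩
  injective_of_mem h a b e := Subtype.ext (h.isMap.inj a.2 b.2 (by rw [toFn_coe, toFn_coe, e]))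
  conj_mem {P g} hP hg := (Ch.base hc (Fusion.IsMap.conj le_rfl hg) hP).congr fun x hx =>
    ((toFn_apply (conjHom P g) hx).trans rfl).symm
  comp_mem {P Q φ ψ} hφ hψ h := by
    refine (hφ.comp_of_le hψ fun x hx => (toFn_apply φ hx).symm ▸ h ⟨x, hx⟩).congr fun x hx => ?_
    rw [toFn_apply (ψ.comp (φ.codRestrict Q h)) hx, toFn_apply φ hx, toFn_apply ψ (h ⟨x, hx⟩)]
    rfl
  inv_mem {P φ} hφ := by
    obtain ⟨ψ, hψ, hinv⟩ := D.inv_mem (mem_of_isMap hφ.isMap fun x => (toFn_coe φ x).symm)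
    refine ⟨ψ, ?_, hinv⟩
    have hs := hφ.symm hsub hi (toFn ψ) fun x hx => by
      rw [toFn_apply φ hx, toFn_apply ψ (show φ ⟨x, hx⟩ ∈ φ.range from ⟨_, rfl⟩)]
      exact hinv ⟨x, hx⟩
    rwa [toFn_img] at hs

theorem isMap_chSys {hsub : D.IsSubsystemOf G} {hi : E.IsInvariantIn G} {hc : E.IsCentric (S₁ ⊓ T)}
    {P : Subgroup Ω} {f : Ω → Ω} : IsMap (chSys D G hsub hi hc) P f ↔ Ch D E P f := by
  constructor
  · rintro ⟨φ, hφ, e⟩
    exact Ch.congr hφ fun x hx => (toFn_apply φ hx).trans (e x hx)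
  · intro h
    obtain ⟨φ, -, e⟩ := h.isMap
    exact ⟨φ, h.congr fun x hx => ((toFn_apply φ hx).trans (e x hx)).symm, e⟩

/-- An automorphism of `S₁` in `F` acting on `D` acts on the composites. -/
theorem Ch.twist [Finite S] (hi : E.IsInvariantIn F) (hS₁ : S₁ ≤ S) (hsubF : D.IsSubsystemOf F)
    {a : MulAut S₁} (ha : a ∈ F.autGroup S₁)
    (hD : ∀ R f, IsMap D R f → ∀ g : Ω → Ω, (∀ x ∈ R, g (autFn a x) = autFn a (f x)) →
      IsMap D (img (autFn a) R) g)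
    {Q : Subgroup Ω} {f : Ω → Ω} (h : Ch D E Q f) :
    ∀ g : Ω → Ω, (∀ x ∈ Q, g (autFn a x) = autFn a (f x)) → Ch D E (img (autFn a) Q) g := by
  have hb : IsMap F S₁ (autFn a) := (mem_autGroup_iff hS₁).1 ha
  induction h with
  | @base R Q f hc hf hQ =>
    intro g hg
    have hR : R ≤ S₁ := hf.le
    refine (Ch.base (R := img (autFn a) R) ?_
      (hD R f hf (fun y => autFn a (f (autFn a⁻¹ y))) fun x hx => ?_)
      (hb.img_le (hQ.trans hR) fun x hx => hb.mem_img (hQ hx))).congr fun y hy => ?_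
    · exact FusionCrit.isCentric_transport hi hc ⟨hb.mono (inf_le_left.trans hR),
        FusionNormalCent.map_inf_strongly hi.2.1 (hb.mono hR).isIso⟩
    · show autFn a (f (autFn a⁻¹ (autFn a x))) = _
      rw [FusionCrit.autFn_inv_self a (hR hx)]
    · obtain ⟨x, hx, rfl⟩ := (hb.mem_img_iff (hQ.trans hR)).1 hy
      rw [hg x hx, FusionCrit.autFn_inv_self a (hR (hQ hx))]
  | @comp Q f₁ f₂ h₁ h₂ ih₁ ih₂ =>
    intro g hg
    have hQS := h₁.isMap.le
    have hmid : img f₁ Q ≤ S₁ := h₁.isMap.img_le_S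
    have c₁ := ih₁ (fun y => autFn a (f₁ (autFn a⁻¹ y))) fun x hx => by
      show autFn a (f₁ (autFn a⁻¹ (autFn a x))) = _
      rw [FusionCrit.autFn_inv_self a (hQS hx)]
    have c₂ := ih₂ (fun y => autFn a (f₂ (autFn a⁻¹ y))) fun x hx => by
      show autFn a (f₂ (autFn a⁻¹ (autFn a x))) = _
      rw [FusionCrit.autFn_inv_self a (hmid hx)]
    refine (c₁.comp_of_le c₂ fun y hy => ?_).congr fun y hy => ?_
    · obtain ⟨x, hx, rfl⟩ := (hb.mem_img_iff hQS).1 hy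
      rw [FusionCrit.autFn_inv_self a (hQS hx)]
      exact hb.mem_img (h₁.isMap.mem_img hx)
    · obtain ⟨x, hx, rfl⟩ := (hb.mem_img_iff hQS).1 hy
      show autFn a (f₂ (autFn a⁻¹ (autFn a (f₁ (autFn a⁻¹ (autFn a x)))))) = _
      rw [FusionCrit.autFn_inv_self a (hQS hx), FusionCrit.autFn_inv_self a (h₁.isMap.mem hx), hg x hx]
  | @congr Q f₁ f₂ _ e ih =>
    intro g hg
    exact ih g fun x hx => by rw [hg x hx, e x hx]

end Cfsg.Agent.FusionEnvelope
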