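import Cfsg.Agent.EqLemmas
import Cfsg.Agent.Lib.FusionEnvelope.Chains

/-
Descent through a factor of `Aut_F(T)` of order prime to `p`.
Main results: `Setup`, `Setup.dmap_twist`, `Setup.frattini`, `Setup.saturated`, `pPrimeStep`.
-/

set_option autoImplicit false

namespace Cfsg.Agent.FusionEnvelope

open Cfsg Cfsg.FusionSystem Cfsg.Agent.Fusion Cfsg.Agent.FusionChain Cfsg.Agent.FusionNormal

variable {Ω : Type*} [Group Ω] {S S₁ T : Subgroup Ω} {F : FusionSystem S} {E : FusionSystem T} {p : ℕ}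
  {K K' : Subgroup (MulAut T)} {G : FusionSystem S₁}

/-- The hypotheses of the step. -/
structure Setup (F : FusionSystem S) (E : FusionSystem T) (p : ℕ) (K K' : Subgroup (MulAut T))
    (G : FusionSystem S₁) : Prop where
  st : Stage F E p K G
  hi : E.IsInvariantIn F
  le : K' ≤ K
  norm : ∀ a ∈ F.autGroup T, ∀ k ∈ K', a * k * a⁻¹ ∈ K'
  hB : E.autGroup T ≤ K'
  hp' : ∀ a ∈ K, ∀ k : ℕ, a ^ p ^ k ∈ K' → a ∈ K'
  conj : ∀ s ∈ S₁, ∃ γ ∈ K', ∀ x ∈ T, autFn γ x = s * x * s⁻¹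

namespace Setup

variable (H : Setup F E p K K' G)

include H in
theorem le_autGroup : K' ≤ F.autGroup T := H.le.trans H.st.le_autGroup

/-- The maps of `G` with trace in `K'`. -/
abbrev dSys : FusionSystem S₁ :=
  decSys G H.hi H.st.closedT H.le_autGroup S₁ le_rfl H.conj

theorem dSys_sub : H.dSys.IsSubsystemOf G := fun _ _ h => h.2.2.1

theorem dSys_subF : H.dSys.IsSubsystemOf F := fun P _ h => H.st.isSub P (H.dSys_sub P h)

include H in
theorem isCentric_top [Finite S₁] : E.IsCentric (S₁ ⊓ T) := by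
  have : Finite T := finite_of_le H.st.T_le
  rw [inf_eq_right.2 H.st.T_le]
  exact FusionCrit.isCentric_self

/-- The subsystem of index prime to `p`. -/
abbrev xSys [Finite S₁] : FusionSystem S₁ :=
  chSys H.dSys G H.dSys_sub H.st.invariant H.isCentric_top

theorem xSys_sub [Finite S₁] : H.xSys.IsSubsystemOf G := fun P φ hφ =>
  mem_of_isMap (FusionNormal.isMap_of_sub H.dSys_sub (Ch.isMap (E := E) hφ)) fun x => (toFn_coe φ x).symm

theorem isMap_dSys {P : Subgroup Ω} {f : Ω → Ω} (hf : IsMap G P f) (hd : Dec E K' (P ⊓ T) f) :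
    IsMap H.dSys P f :=
  isMap_decSys.2 ⟨hf.le, fun _ hx => hf.mem hx, hf, hd⟩

/-- The automorphisms of `S₁` in `F` act on the maps with trace in `K'`. -/
theorem dmap_twist [Finite S] {a : MulAut S₁} (ha : a ∈ F.autGroup S₁) (R : Subgroup Ω) (f : Ω → Ω)
    (hf : IsMap H.dSys R f) (g : Ω → Ω) (hg : ∀ x ∈ R, g (autFn a x) = autFn a (f x)) :
    IsMap H.dSys (img (autFn a) R) g := by
  obtain ⟨hR, -, hfG, hd⟩ := isMap_decSys.1 hf
  have hS₁ := H.st.le
  have hb : IsMap F S₁ (autFn a) := (mem_autGroup_iff hS₁).1 ha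
  obtain ⟨k, hk, hke⟩ := transport_map H.st.wn.2.2 hR hfG ha
  have hgG : IsMap G (img (autFn a) R) g := hk.congr fun y hy => by
    obtain ⟨x, hx, rfl⟩ := (hb.mem_img_iff hR).1 hy
    rw [hke x hx, hg x hx]
  refine H.isMap_dSys hgG ?_
  obtain ⟨c, hc, hce⟩ := exists_aut_of_isIso (show IsIso F T T (autFn a) from
    ⟨hb.mono H.st.T_le, FusionNormalCent.img_strongly H.hi.2.1 hb H.st.T_le⟩)
  have hcT : ∀ u ∈ T, autFn c u = autFn a u := fun u hu => (autFn_apply c hu).trans (hce ⟨u, hu⟩)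
  refine hd.twist H.hi H.le_autGroup (fun α hα γ hγ => H.norm α hα γ hγ) inf_le_right hc
    (fun x hx => ?_) fun y hy => ?_
  · rw [hcT x hx.2, hg x hx.1, hcT _ (hd.mem hx)]
  · obtain ⟨x, hx, rfl⟩ := (hb.mem_img_iff hR).1 hy.1
    have hxT : x ∈ T := (mem_inf_of_map H.hi.2.1 hb (hR hx)).1 hy.2
    exact ⟨x, ⟨hx, hxT⟩, hcT x hxT⟩

theorem ch_twist [Finite S] [Finite S₁] {a : MulAut S₁} (ha : a ∈ F.autGroup S₁) {Q : Subgroup Ω}
    {f : Ω → Ω} (h : Ch H.dSys E Q f) (g : Ω → Ω) (hg : ∀ x ∈ Q, g (autFn a x) = autFn a (f x)) :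
    Ch H.dSys E (img (autFn a) Q) g :=
  Ch.twist H.hi H.st.le H.dSys_subF ha (H.dmap_twist ha) h g hg

variable [Finite S] [Finite S₁] [Fact p.Prime] (hS : IsPGroup p S₁)

omit [Finite S] [Finite S₁] [Fact p.Prime] in
include H in
theorem autS_le : autInducedBy S₁ T ≤ K' := by
  intro α hα
  obtain ⟨s, hs, hse⟩ := mem_autInducedBy_iff.1 hα
  obtain ⟨γ, hγ, hge⟩ := H.conj s hs
  rwa [eq_of_autFn (α := α) (β := γ) fun x hx => by rw [autFn_apply α hx, hge x hx]; exact hse ⟨x, hx⟩]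

include hS in
/-- Every map of `G` is an automorphism of `S₁` after a composite. -/
theorem frattini {P : Subgroup Ω} {f : Ω → Ω} (hf : IsMap G P f) :
    ∃ β ∈ G.autGroup S₁, ∃ c, Ch H.dSys E P c ∧ ∀ x ∈ P, f x = autFn β (c x) := by
  have hsubA : ∀ {β}, β ∈ G.autGroup S₁ → β ∈ F.autGroup S₁ := fun h =>
    FusionNormal.autGroup_le_of_sub H.st.isSub le_rfl h
  refine alperin_induction hS H.st.sat
    (fun P f => ∃ β ∈ G.autGroup S₁, ∃ c, Ch H.dSys E P c ∧ ∀ x ∈ P, f x = autFn β (c x)) ?_ ?_ ?_ ?_ hf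
  · rintro P f g - ⟨β, hβ, c, hc, hce⟩ e
    exact ⟨β, hβ, c, hc, fun x hx => (e x hx).symm.trans (hce x hx)⟩
  · rintro P P' f - hle ⟨β, hβ, c, hc, hce⟩
    exact ⟨β, hβ, c, hc.mono _ hle, fun x hx => hce x (hle hx)⟩
  · rintro P P' f g hf hg hfP ⟨β, hβ, c, hc, hce⟩ ⟨β', hβ', c', hc', hce'⟩
    have hbi : IsMap G S₁ (autFn β⁻¹) := (mem_autGroup_iff le_rfl).1 (inv_mem hβ)
    have hP' : P' ≤ S₁ := hg.le
    have hc'' := H.ch_twist (hsubA (inv_mem hβ)) hc' (fun y => autFn β⁻¹ (c' (autFn β y))) fun x hx => by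
      show autFn β⁻¹ (c' (autFn β (autFn β⁻¹ x))) = _
      rw [FusionCrit.autFn_self_inv β (hP' hx)]
    refine ⟨β' * β, mul_mem hβ' hβ, _, hc.comp_of_le hc'' fun x hx => ?_, fun x hx => ?_⟩
    · have h1 := hc.isMap.mem hx
      rw [← FusionCrit.autFn_inv_self β h1, ← hce x hx]
      exact hbi.mem_img (hfP x hx)
    · have h1 := hc.isMap.mem hx
      have h2 : c' (f x) ∈ S₁ := hc'.isMap.mem (hfP x hx)
      show g (f x) = autFn (β' * β) (autFn β⁻¹ (c' (autFn β (c x))))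
      rw [← hce x hx, FusionCrit.autFn_mul _ _ (autFn_mem β⁻¹ h2), FusionCrit.autFn_self_inv β h2,
        hce' _ (hfP x hx)]
  intro R hR hc hr α hα _
  have hT := H.st.closedT
  have hgood := isCentric_inf_of_radical hS H.st.sat hT H.st.invariant.1 hc hr
  have hα' : IsMap G R (autFn α) := (mem_autGroup_iff hR.1).1 hα
  obtain ⟨γ, hγ, g, hg, hge⟩ := frattini_map H.st.invariant inf_le_right
    (hα'.mono (inf_le_left : R ⊓ T ≤ R))
  have hγK : γ ∈ K := H.st.aut.le hγ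
  obtain ⟨β, hβ, a, ha, hba⟩ := exists_top_class hS H.st.sat hT (H.st.aut.ge.trans' H.le)
    (fun b hb k hk => H.norm b (H.st.le_autGroup (H.st.aut.le hb)) k hk) H.autS_le hγ
  have hbi : IsMap G S₁ (autFn β⁻¹) := (mem_autGroup_iff le_rfl).1 (inv_mem hβ)
  refine ⟨β, hβ, fun x => autFn β⁻¹ (autFn α x), Ch.base hgood (H.isMap_dSys
    (hα'.comp hbi fun x hx => hR.1 (autFn_mem α hx)) ⟨(a * γ)⁻¹ * γ, ?_, g, hg, fun x hx => ?_⟩) le_rfl,
    fun x hx => (FusionCrit.autFn_self_inv β (hR.1 (autFn_mem α hx))).symm⟩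
  · have h1 := H.norm γ⁻¹ (inv_mem (H.st.le_autGroup hγK)) a⁻¹ (inv_mem ha)
    rw [inv_inv] at h1
    rwa [mul_inv_rev]
  · have hgx : g x ∈ T := hg.mem hx
    have hw : autFn γ (g x) ∈ T := autFn_mem γ hgx
    show autFn β⁻¹ (autFn α x) = _
    rw [hge x hx, FusionCrit.autFn_mul _ _ hgx]
    have hw' := autFn_mem (a * γ)⁻¹ hw
    conv_lhs => rw [← FusionCrit.autFn_self_inv (a * γ) hw, ← hba _ hw']
    exact FusionCrit.autFn_inv_self β (H.st.T_le hw')

include hS in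
/-- A subgroup is conjugate by a composite to a subgroup fully normalized in `G`. -/
theorem exists_fullyNormalized_ch {P : Subgroup Ω} (hP : P ≤ S₁) :
    ∃ c, Ch H.dSys E P c ∧ G.IsFullyNormalized (img c P) := by
  obtain ⟨R, f, hR, hf, hfR, -⟩ := exists_fullyNormalized_map hS H.st.sat hP
  obtain ⟨β, hβ, c, hc, hce⟩ := H.frattini hS (hf.mono (le_normalizerIn hP))
  have hbi : IsMap G S₁ (autFn β⁻¹) := (mem_autGroup_iff le_rfl).1 (inv_mem hβ)
  have hRS : R ≤ S₁ := hR.1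
  have hbR : img (autFn β⁻¹) R = img c P := by
    refine IsIso.img_eq_of hbi hRS (fun y hy => ?_) fun z hz => ?_
    · rw [← hfR] at hy
      obtain ⟨x, hx, rfl⟩ := (hf.mem_img_iff (le_normalizerIn hP)).1 hy
      rw [hce x hx, FusionCrit.autFn_inv_self β (hc.isMap.mem hx)]
      exact hc.isMap.mem_img hx
    · obtain ⟨x, hx, rfl⟩ := (hc.isMap.mem_img_iff le_rfl).1 hz
      exact ⟨f x, hfR ▸ (hf.mem_img hx), by rw [hce x hx, FusionCrit.autFn_inv_self β (hc.isMap.mem hx)]⟩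
  refine ⟨c, hc, hc.isMap.img_le_S, fun X hX => ?_⟩
  have hQR : G.IsConj R (img c P) := isConj_iff.2 ⟨_, hbi.mono hRS, hbR⟩
  refine (hR.2 X (isConj_trans hQR hX)).trans ?_
  rw [← hbi.card_img (Q := normalizerIn S₁ R) inf_le_left]
  have := finite_of_le (S := S₁) (P := normalizerIn S₁ (img c P)) inf_le_left
  exact Subgroup.card_le_of_le (hbi.img_le inf_le_left fun y hy =>
    map_normalizerIn hbi hRS hbR hy.1 hy)

include hS in
theorem saturated (hS' : IsPGroup p S) : H.xSys.IsSaturated p := by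
  have hT := H.st.closedT
  have hsub := H.xSys_sub
  have hTX : H.xSys.StronglyClosed T := Fusion.stronglyClosed_iff.2 ⟨H.st.T_le, fun P f hf x hx hxT =>
    isMap_mem_of_stronglyClosed hT (FusionNormal.isMap_of_sub hsub hf) hx hxT⟩
  refine FusionCrit.isSaturated_of_family hS {P | P ≤ S₁ ∧ E.IsCentric (P ⊓ T)} (fun P hP Q hQ => ?_)
    (fun P hP => ?_) (fun E' hE' => le_of_isMap fun P f hf => ?_) fun P hP hbad => ?_
  · obtain ⟨f, hf⟩ := isConj_iff.1 hQ
    refine ⟨hf.le_right, ?_⟩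
    exact FusionCrit.isCentric_transport H.st.invariant hP.2
      ⟨(FusionNormal.isMap_of_sub hsub hf.1).mono inf_le_left,
        FusionNormalCent.map_inf_strongly hT (FusionNormal.isIso_of_sub hsub hf)⟩
  · obtain ⟨hPS, hP⟩ := hP
    obtain ⟨c, hc, hQn⟩ := H.exists_fullyNormalized_ch hS hPS
    set Q := img c P with hQdef
    have hQS : Q ≤ S₁ := hQn.1
    have := finite_mulAut hQS
    refine ⟨Q, isConj_iff.2 ⟨c, isMap_chSys.2 hc, rfl⟩, isFullyAutomized_iff.2 ⟨hQS,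
      (isFullyAutomized_iff.1 (fullyAutomized_of_fullyNormalized hS H.st.sat hQn)).2.mono
        (autInducedBy_le_autGroup H.xSys le_rfl hQS) (FusionNormal.autGroup_le_of_sub hsub hQS)⟩,
      isReceptive_iff.2 ⟨hQS, fun P' φ hφ => ?_⟩⟩
    have hφG : IsIso G P' Q φ := FusionNormal.isIso_of_sub hsub hφ
    obtain ⟨ψ, hψ, hee⟩ := (isReceptive_iff.1 (receptive_of_fullyNormalized hS H.st.sat hQn)).2 P' φ hφG
    have hP'N : P' ≤ Nx S₁ P' φ := le_Nx hφG.1
    have hgood' : E.IsCentric (P' ⊓ T) := by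
      obtain ⟨i, hi', -, -⟩ := hφG.symm
      refine FusionCrit.isCentric_transport H.st.invariant ?_
        ⟨hi'.1.mono inf_le_left, FusionNormalCent.map_inf_strongly hT hi'⟩
      exact FusionCrit.isCentric_transport H.st.invariant hP
        ⟨(FusionNormal.isMap_of_sub H.dSys_sub hc.isMap).mono inf_le_left,
          FusionNormalCent.map_inf_strongly hT (FusionNormal.isMap_of_sub H.dSys_sub hc.isMap).isIso⟩
    have hgoodN : E.IsCentric (Nx S₁ P' φ ⊓ T) :=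
      FusionCrit.isCentric_of_le hgood' (inf_le_inf_right T hP'N) inf_le_right
    obtain ⟨γ, hγ, g, hg, hge⟩ := frattini_map H.st.invariant inf_le_right
      (hψ.mono (inf_le_left : Nx S₁ P' φ ⊓ T ≤ Nx S₁ P' φ))
    have hle' : P' ⊓ T ≤ Nx S₁ P' φ ⊓ T := inf_le_inf_right T hP'N
    have hd : Dec E K' (P' ⊓ T) φ := by
      have h1 := isMap_chSys.1 hφ.1
      exact (isMap_decSys.1 h1.isMap).2.2.2
    have hγ' : γ ∈ K' := mem_of_dec hS' H.st.normal.1.1 H.hi H.st.le_autGroup H.le H.hB H.hp' hgood'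
      (f := φ) (H.st.aut.le hγ) (hg.mono hle')
      (fun x hx => (hee x hx.1).symm.trans (hge x (hle' hx))) hd
    exact ⟨ψ, isMap_chSys.2 (Ch.base hgoodN (H.isMap_dSys hψ ⟨γ, hγ', g, hg, hge⟩) le_rfl), hee⟩
  · have key : ∀ {Q : Subgroup Ω} {f : Ω → Ω}, Ch H.dSys E Q f → IsMap E' Q f := by
      intro Q f h
      induction h with
      | @base R Q f hc hf hQ =>
        obtain ⟨φ, hφ, e⟩ : IsMap H.xSys R f := isMap_chSys.2 (Ch.base hc hf le_rfl)
        exact IsMap.mono ⟨φ, hE' R ⟨hf.le, hc⟩ hφ, e⟩ hQ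
      | comp _ _ ih1 ih2 => exact ih1.comp ih2 fun x hx => ih1.mem_img hx
      | congr _ e ih => exact ih.congr e
    exact key (isMap_chSys.1 hf)
  · obtain ⟨h, x, hh, hxT, hxN, hxR, hfix⟩ := exists_bad hS H.st.sat hT H.st.invariant.1 hP.1
      fun hc => hbad ⟨hP.1, hc⟩
    obtain ⟨β, hβ, c, hc, hce⟩ := H.frattini hS hh
    have hb : IsMap G S₁ (autFn β) := (mem_autGroup_iff le_rfl).1 hβ
    have hbi : IsMap G S₁ (autFn β⁻¹) := (mem_autGroup_iff le_rfl).1 (inv_mem hβ)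
    have hR₀S : img h P ≤ S₁ := hh.img_le_S
    have hQ : img (autFn β⁻¹) (img h P) = img c P := by
      refine IsIso.img_eq_of hbi hR₀S (fun y hy => ?_) fun z hz => ?_
      · obtain ⟨w, hw, rfl⟩ := (hh.mem_img_iff le_rfl).1 hy
        rw [hce w hw, FusionCrit.autFn_inv_self β (hc.isMap.mem hw)]
        exact hc.isMap.mem_img hw
      · obtain ⟨w, hw, rfl⟩ := (hc.isMap.mem_img_iff le_rfl).1 hz
        exact ⟨h w, hh.mem_img hw, by rw [hce w hw, FusionCrit.autFn_inv_self β (hc.isMap.mem hw)]⟩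
    have hxS : x ∈ S₁ := hxN.1
    set y := autFn β⁻¹ x with hy
    have hyT : y ∈ T := isMap_mem_of_stronglyClosed hT hbi hxS hxT
    have hyN : y ∈ normalizerIn S₁ (img c P) := map_normalizerIn hbi hR₀S hQ hxS hxN
    have hyQ : y ∉ img c P := fun hyQ => hxR (by
      rw [← hQ] at hyQ
      obtain ⟨z, hz, hze⟩ := (hbi.mem_img_iff hR₀S).1 hyQ
      exact hbi.inj (hR₀S hz) hxS hze ▸ hz)
    have hfix' : ∀ z ∈ img c P, z ∈ T → y * z * y⁻¹ = z := by
      intro z hz hzT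
      rw [← hQ] at hz
      obtain ⟨w, hw, rfl⟩ := (hbi.mem_img_iff hR₀S).1 hz
      rw [← hbi.map_conj hxS (hR₀S hw),
        hfix w hw ((mem_inf_of_map hT hbi (hR₀S hw)).1 hzT)]
    refine ⟨img c P, isConj_iff.2 ⟨c, isMap_chSys.2 hc, rfl⟩, fun hle => hyQ ?_⟩
    have hQS : img c P ≤ S₁ := hc.isMap.img_le_S
    have hC := centralizerIn_le_of_centric (FusionCrit.isCentric_of_isConj hP
      (isConj_iff.2 ⟨c, isMap_chSys.2 hc, rfl⟩ : H.xSys.IsConj P (img c P)))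
    refine mem_of_conj_mem_inn hC hyN.1 hQS (α := normConj S₁ (img c P) ⟨y, hyN⟩)
      (hle ⟨range_normConj S₁ (img c P) ▸ ⟨_, rfl⟩, mem_pCoreAut_of_fix hS hTX hQS hyT hyN hfix'⟩)
      fun z => rfl

end Setup

/-- Descent through a factor of order prime to `p`. -/
theorem pPrimeStep [Finite S] [Fact p.Prime] (hS : IsPGroup p S) (hi : E.IsInvariantIn F) (hK' : K' ≤ K)
    (hn : ∀ a ∈ F.autGroup T, ∀ k ∈ K', a * k * a⁻¹ ∈ K') (hB : E.autGroup T ≤ K')
    (hp' : ∀ a ∈ K, ∀ k : ℕ, a ^ p ^ k ∈ K' → a ∈ K') (st : Stage F E p K G) :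
    ∃ (S₂ : Subgroup Ω) (G₂ : FusionSystem S₂), Stage F E p K' G₂ := by
  have hTS : T ≤ S := hi.2.1.1
  have hS₁ : S₁ ≤ S := st.le
  have : Finite S₁ := finite_of_le hS₁
  have : Finite T := finite_of_le hTS
  have hpS₁ := hS.to_le hS₁
  have hT := st.closedT
  have hconj : ∀ s ∈ S₁, ∃ γ ∈ K', ∀ x ∈ T, autFn γ x = s * x * s⁻¹ := by
    intro s hs
    refine ⟨conjT hT ⟨s, hs⟩, ?_, fun x hx => autFn_conjT hT hs hx⟩
    obtain ⟨k, hk⟩ := hpS₁ ⟨s, hs⟩
    refine hp' _ (st.conjT_mem hs) k ?_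
    rw [← map_pow, hk, map_one]
    exact one_mem _
  have H : Setup F E p K K' G := ⟨st, hi, hK', hn, hB, hp', hconj⟩
  set X := H.xSys with hX
  have hXs : X.IsSaturated p := H.saturated hpS₁ hS
  have hXG : X.IsSubsystemOf G := H.xSys_sub
  have hXF : X.IsSubsystemOf F := fun P φ hφ => st.isSub P (hXG P hφ)
  have hGi := st.wn.2.2
  have hXi : X.IsInvariantIn F := by
    refine FusionProduct.isInvariantIn_of_fn hXF hGi.2.1 (fun P f hP hf α hα => ?_) fun P f hP hf => ?_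
    · have hb : IsMap F S₁ (autFn α) := (mem_autGroup_iff hS₁).1 hα
      have he : ∀ x ∈ P, (fun y => autFn α (f (autFn α⁻¹ y))) (autFn α x) = autFn α (f x) := fun x hx => by
        show autFn α (f (autFn α⁻¹ (autFn α x))) = _
        rw [FusionCrit.autFn_inv_self α (hP hx)]
      exact ⟨fun y => autFn α (f (autFn α⁻¹ y)), isMap_chSys.2 (H.ch_twist hα (isMap_chSys.1 hf) _ he), he⟩
    · obtain ⟨a, ha, g, hg, hge⟩ := frattini_map hGi hP hf
      obtain ⟨β, hβ, c, hc, hce⟩ := H.frattini hpS₁ hg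
      refine ⟨a * β, mul_mem ha (FusionNormal.autGroup_le_of_sub st.isSub le_rfl hβ), c,
        isMap_chSys.2 hc, fun x hx => ?_⟩
      rw [hge x hx, hce x hx, FusionCrit.autFn_mul _ _ (hc.isMap.mem hx)]
  have hEs : E.IsSaturated p := st.normal.1.1
  have hpT := hS.to_le hTS
  have hTX : X.StronglyClosed T := Fusion.stronglyClosed_iff.2 ⟨st.T_le, fun P f hf x hx hxT =>
    isMap_mem_of_stronglyClosed hT (FusionNormal.isMap_of_sub hXG hf) hx hxT⟩
  have hXdec : ∀ {P : Subgroup Ω} {f : Ω → Ω}, IsMap X P f → Dec E K' (P ⊓ T) f := fun hf =>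
    (isMap_decSys.1 (isMap_chSys.1 hf).isMap).2.2.2
  have hgood : ∀ {R : Subgroup Ω} {f : Ω → Ω}, E.IsCentric (R ⊓ T) → IsMap G R f →
      Dec E K' (R ⊓ T) f → IsMap X R f := fun hc hf hd =>
    isMap_chSys.2 (Ch.base hc (H.isMap_dSys hf hd) le_rfl)
  have hEX : E.IsSubsystemOf X := by
    intro P φ hφ
    refine mem_of_isMap ?_ fun x => (toFn_coe φ x).symm
    refine alperin hpT hEs (fun P f => IsMap X P f) (fun _ _ _ _ h e => h.congr e)
      (fun _ _ _ _ h' h => h.mono h') (fun _ _ _ _ _ _ h h1 h2 => h1.comp h2 h) ?_ (isMap_toFn hφ)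
    intro R hR hc _ α hα
    have hm : IsMap E R (autFn α) := (mem_autGroup_iff hR.1).1 hα
    exact hgood (by rwa [inf_eq_left.2 hR.1]) (FusionNormal.isMap_of_sub st.invariant.1 hm)
      ((Dec.of_map hm).mono inf_le_left)
  have hcT : E.IsCentric (T ⊓ T) := by
    rw [inf_idem]
    exact FusionCrit.isCentric_self
  have hautX : X.autGroup T = K' := by
    refine le_antisymm (fun a ha => mem_of_dec_top hB ?_) fun a ha => ?_
    · have := hXdec ((mem_autGroup_iff st.T_le).1 ha)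
      rwa [inf_idem] at this
    · exact (mem_autGroup_iff st.T_le).2 (hgood hcT ((mem_autGroup_iff st.T_le).1 (st.aut.ge (hK' ha)))
        (Dec.of_aut inf_le_right ha))
  have hEi : E.IsInvariantIn X := by
    refine FusionProduct.isInvariantIn_of_fn hEX hTX
      (fun P f hP hf α hα => transport_map hi hP hf (H.le_autGroup (hautX.le hα))) fun P f hP hf => ?_
    have hd := hXdec hf
    rw [inf_eq_left.2 hP] at hd
    obtain ⟨γ, hγ, g, hg, hge⟩ := hd
    exact ⟨γ, hautX.ge hγ, g, hg, hge⟩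
  refine ⟨S₁, X, ⟨hXs, st.wn.2.1, hXi⟩,
    FusionProduct.isNormalIn_of_fn ⟨hEs, hXs, hEi⟩ fun α hα => ?_, hautX, fun s => ?_,
    (sameLimit_of_primeIndex hpS₁ hXs st.sat
      (primeIndex_of_invariant hpS₁ st.sat hXG st.isSub hXi)).trans hpS₁ st.sat st.same⟩
  · obtain ⟨β, hβ, hβT, hβC⟩ := st.normal.2 α hα
    have hMS : T ⊔ centralizerIn S₁ T ≤ S₁ := sup_le st.T_le inf_le_left
    have hTM : T ≤ T ⊔ centralizerIn S₁ T := le_sup_left
    have hβT' : ∀ x ∈ T, autFn β x = autFn α x := fun x hx =>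
      (autFn_apply β (hTM hx)).trans ((hβT ⟨x, hx⟩).trans (autFn_apply α hx).symm)
    refine ⟨autFn β, hgood ?_ ((mem_autGroup_iff hMS).1 hβ)
      ((Dec.of_aut inf_le_right (hB hα)).congr fun x hx => (hβT' x hx.2).symm), hβT', fun c hc => ?_⟩
    · rw [inf_eq_right.2 hTM]
      exact FusionCrit.isCentric_self
    · have hcM : c ∈ T ⊔ centralizerIn S₁ T := Subgroup.mem_sup_right hc
      rw [autFn_apply β hcM]
      exact hβC ⟨c, hcM⟩ hc
  · exact ⟨fun hs => ⟨hS₁ hs, hconj s hs⟩, fun ⟨hsS, γ, hγ, hge⟩ => (st.dom s).2 ⟨hsS, γ, hK' hγ, hge⟩⟩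

end Cfsg.Agent.FusionEnvelope
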