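import Cfsg.Agent.EqLemmas
import Cfsg.Agent.Lib.FusionEnvelope.Stage
import Cfsg.Agent.Lib.FusionChain.Puig
import Cfsg.Agent.Lib.FusionProduct.Extend

/-
Descent through a `p`-group factor of `Aut_F(T)`.
Main results: `hyperfocal_le_topSub`, `isMap_autFn_pow`, `extension_pStep`, `pStep`.
-/

set_option autoImplicit false

namespace Cfsg.Agent.FusionEnvelope

open Cfsg Cfsg.FusionSystem Cfsg.Agent.Fusion Cfsg.Agent.FusionChain Cfsg.Agent.FusionNormal

variable {Ω : Type*} [Group Ω] {S S₁ T : Subgroup Ω} {F : FusionSystem S} {E : FusionSystem T} {p : ℕ}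
  [Fact p.Prime] {K K' : Subgroup (MulAut T)} {G : FusionSystem S₁}

theorem inn_le_of_autGroup (hB : E.autGroup T ≤ K') : Cfsg.Inn T ≤ K' :=
  (inn_le_autGroup E le_rfl).trans hB

theorem conjT_mem_inn [Finite S₁] (hT : G.StronglyClosed T) {t : Ω} (ht : t ∈ T) :
    conjT hT ⟨t, hT.1 ht⟩ ∈ Cfsg.Inn T :=
  ⟨⟨t, ht⟩, MulEquiv.ext fun x => Subtype.ext (by
    have h := autFn_conjT hT (hT.1 ht) x.2
    rw [autFn_apply _ x.2] at h
    exact h.symm)⟩

/-- The hyperfocal subgroup acts on `T` inside `K'` when `K/K'` is a `p`-group. -/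
theorem hyperfocal_le_topSub [Finite S₁] (hS : IsPGroup p S₁) (hG : G.IsSaturated p)
    (hT : G.StronglyClosed T) (hK : G.autGroup T ≤ K) (hn : ∀ a ∈ K, ∀ k ∈ K', a * k * a⁻¹ ∈ K')
    (hB : Cfsg.Inn T ≤ K') (hq : ∀ a ∈ K, ∃ k : ℕ, a ^ p ^ k ∈ K') :
    G.hyperfocalSubgroup p ≤ topSub hT K' := by
  let c : S₁ →* K := (conjT hT).codRestrict K fun s => hK (conjT_mem hT s.2)
  have : (K'.subgroupOf K).Normal := ⟨fun k hk a => hn a a.2 k hk⟩
  let ψ : S₁ →* K ⧸ K'.subgroupOf K := (QuotientGroup.mk' _).comp c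
  have hψ : ∀ s : S₁, ψ s = 1 ↔ conjT hT s ∈ K' := fun s =>
    (QuotientGroup.eq_one_iff (c s)).trans Iff.rfl
  refine (Subgroup.closure_le _).2 ?_
  rintro y ⟨P, α, x, hP, hα, rfl⟩
  have hmain : ∀ a : G.autGroup P, a ∈ Cfsg.pResidual p (G.autGroup P) →
      ∀ x : P, ψ ⟨((a : MulAut P) x : P), hP ((a : MulAut P) x).2⟩ = ψ ⟨x, hP x.2⟩ := by
    intro a ha
    induction ha using Subgroup.closure_induction with
    | one => exact fun x => rfl
    | mul a b _ _ ha hb => exact fun x => (ha ((b : MulAut P) x)).trans (hb x)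
    | inv a _ ha =>
      intro x
      have h := ha ((a : MulAut P)⁻¹ x)
      simp only [MulAut.apply_inv_self] at h
      exact h.symm
    | mem a hga =>
      obtain ⟨g, hg, hge⟩ := exists_map_congr_mod hS hG hT ((mem_autGroup_iff hP).1 a.2)
      have hTS := hT.1
      obtain ⟨γ, hγ, hγe⟩ := exists_aut_of_isIso (show IsIso G T T g from
        ⟨hg.mono le_sup_right, FusionNormalCent.img_strongly hT hg le_sup_right⟩)
      let γb : K ⧸ K'.subgroupOf K := QuotientGroup.mk' _ ⟨γ, hK hγ⟩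
      have hstep : ∀ x : P, ψ ⟨((a : MulAut P) x : P), hP ((a : MulAut P) x).2⟩ =
          γb * ψ ⟨x, hP x.2⟩ * γb⁻¹ := by
        intro x
        have hxM : (x : Ω) ∈ P ⊔ T := Subgroup.mem_sup_left x.2
        have hgx : g x ∈ S₁ := hg.mem hxM
        have ht : (g x)⁻¹ * ((a : MulAut P) x : P) ∈ T := by
          rw [← autFn_apply (a : MulAut P) x.2]
          exact hge x x.2
        have h1 : (⟨((a : MulAut P) x : P), hP ((a : MulAut P) x).2⟩ : S₁) =
            ⟨g x, hgx⟩ * ⟨_, hTS ht⟩ := Subtype.ext (mul_inv_cancel_left _ _).symm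
        have h3 : ψ ⟨_, hTS ht⟩ = 1 := (hψ _).2 (hB (conjT_mem_inn hT ht))
        have h4 : conjT hT ⟨g x, hgx⟩ = γ * conjT hT ⟨x, hP x.2⟩ * γ⁻¹ := by
          refine eq_mul_inv_iff_mul_eq.2 (eq_of_autFn fun t ht' => ?_)
          have hxt : (x : Ω) * t * (x : Ω)⁻¹ ∈ T :=
            FusionChain.conj_mem_of_stronglyClosed hT (hP x.2) ht'
          have hgT : ∀ u ∈ T, autFn γ u = g u := fun u hu => (autFn_apply γ hu).trans (hγe ⟨u, hu⟩)
          rw [FusionCrit.autFn_mul _ _ ht', FusionCrit.autFn_mul _ _ ht', autFn_conjT hT (hP x.2) ht',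
            autFn_conjT hT hgx (autFn_mem γ ht'), hgT t ht', hgT _ hxt,
            hg.map_conj hxM (Subgroup.mem_sup_right ht')]
        rw [h1, map_mul, h3, mul_one]
        show QuotientGroup.mk' _ (c ⟨g x, hgx⟩) = _
        rw [show c ⟨g x, hgx⟩ = ⟨γ, hK hγ⟩ * c ⟨x, hP x.2⟩ * ⟨γ, hK hγ⟩⁻¹ from Subtype.ext h4,
          map_mul, map_mul, map_inv]
        rfl
      intro x
      have hpow : ∀ n : ℕ, ψ ⟨(((a : MulAut P) ^ n) x : P), hP (((a : MulAut P) ^ n) x).2⟩ =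
          γb ^ n * ψ ⟨x, hP x.2⟩ * (γb ^ n)⁻¹ := by
        intro n
        induction n with
        | zero => simp
        | succ n ih =>
          refine Eq.trans (?_ : _ = ψ ⟨((a : MulAut P) (((a : MulAut P) ^ n) x) : P),
            hP ((a : MulAut P) (((a : MulAut P) ^ n) x)).2⟩) ?_
          · congr 1
            exact Subtype.ext (by rw [pow_succ', MulAut.mul_apply])
          · rw [hstep, ih, pow_succ']
            group
      obtain ⟨k, hk⟩ := hq γ (hK hγ)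
      have hk' : γb ^ p ^ k = 1 := by
        rw [← map_pow]
        exact (QuotientGroup.eq_one_iff _).2 hk
      have hm := hpow (orderOf (a : MulAut P))
      have hm1 : γb ^ orderOf (a : MulAut P) ∈ Subgroup.centralizer {ψ ⟨x, hP x.2⟩} := by
        rw [Subgroup.mem_centralizer_singleton_iff]
        have e : ψ ⟨(((a : MulAut P) ^ orderOf (a : MulAut P)) x : P),
            hP (((a : MulAut P) ^ orderOf (a : MulAut P)) x).2⟩ = ψ ⟨x, hP x.2⟩ := by
          congr 1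
          exact Subtype.ext (by rw [pow_orderOf_eq_one]; rfl)
        rw [e] at hm
        exact (eq_mul_inv_iff_mul_eq.1 hm).symm
      have hco : (orderOf (a : MulAut P)).Coprime p := by rw [Subgroup.orderOf_coe]; exact hga
      have h5 := pow_gcd_mem hm1 hk'
      rw [(hco.pow_right k).gcd_eq_one, pow_one, Subgroup.mem_centralizer_singleton_iff] at h5
      rw [hstep x, mul_inv_eq_iff_eq_mul]
      exact h5
  have hxS : ((x : Ω)⁻¹ * ((α : MulAut P) x : P)) ∈ S₁ :=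
    S₁.mul_mem (S₁.inv_mem (hP x.2)) (hP ((α : MulAut P) x).2)
  refine mem_topSub.2 ⟨hxS, (hψ _).1 ?_⟩
  rw [show (⟨_, hxS⟩ : S₁) = (⟨x, hP x.2⟩ : S₁)⁻¹ * ⟨_, hP ((α : MulAut P) x).2⟩ from rfl,
    map_mul, map_inv, hmain α hα x, inv_mul_cancel]

omit [Fact p.Prime] in
/-- Powers of an automorphism decompose with powers of the factor. -/
theorem isMap_autFn_pow (hi : E.IsInvariantIn F) {R Q : Subgroup Ω} (hQR : Q ≤ R) (hQ : Q ≤ T)
    {a : MulAut R} (haQ : ∀ x ∈ Q, autFn a x ∈ Q) {γ : MulAut T} (hγ : γ ∈ F.autGroup T) {g : Ω → Ω}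
    (hg : IsMap E Q g) (he : ∀ x ∈ Q, autFn a x = autFn γ (g x)) :
    ∀ n : ℕ, ∃ φ, IsMap E Q φ ∧ ∀ x ∈ Q, autFn (a ^ n) x = autFn (γ ^ n) (φ x) ∧ autFn (a ^ n) x ∈ Q := by
  intro n
  induction n with
  | zero =>
    refine ⟨fun x => x, IsMap.id hQ, fun x hx => ?_⟩
    rw [pow_zero, pow_zero, autFn_apply _ (hQR hx), autFn_apply _ (hQ hx)]
    exact ⟨rfl, hx⟩
  | succ n ih =>
    obtain ⟨φ, hφ, hφe⟩ := ih
    have hi' : (γ ^ n)⁻¹ ∈ F.autGroup T := inv_mem (pow_mem hγ n)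
    obtain ⟨k, hk, hke⟩ := transport_map hi hQ hg hi'
    have hb : IsMap F T (autFn (γ ^ n)⁻¹) := (mem_autGroup_iff hi.2.1.1).1 hi'
    have hinv : ∀ x ∈ Q, φ x = autFn (γ ^ n)⁻¹ (autFn (a ^ n) x) := fun x hx => by
      rw [(hφe x hx).1, FusionCrit.autFn_inv_self _ (hφ.mem hx)]
    refine ⟨fun x => k (φ x), hφ.comp hk fun x hx => ?_, fun x hx => ?_⟩
    · rw [hinv x hx]
      exact hb.mem_img (hφe x hx).2
    · have hy := (hφe x hx).2
      have e : autFn (a ^ (n + 1)) x = autFn a (autFn (a ^ n) x) := by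
        rw [pow_succ', FusionCrit.autFn_mul _ _ (hQR hx)]
      refine ⟨?_, e ▸ haQ _ hy⟩
      show _ = autFn (γ ^ (n + 1)) (k (φ x))
      rw [e, he _ hy, hinv x hx, hke _ hy, pow_succ' γ,
        FusionCrit.autFn_mul _ _ (autFn_mem _ (hg.mem hy)), FusionCrit.autFn_self_inv _ (hg.mem hy)]

/-- The extension condition passes to a subsystem of `p`-power index. -/
theorem extension_pStep {U : Subgroup Ω} [Finite S₁] [Finite T] (hT' : IsPGroup p T) (hE : E.IsNormalIn G p)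
    {X : FusionSystem U} (hXi : X.HasPPowerIndexIn G p) (hTU : T ≤ U)
    (hC : centralizerIn U T = centralizerIn S₁ T) {α : MulAut T} (hα : α ∈ E.autGroup T) :
    ∃ h, IsMap X (T ⊔ centralizerIn U T) h ∧ (∀ x ∈ T, h x = autFn α x) ∧
      ∀ c ∈ centralizerIn U T, c⁻¹ * h c ∈ T ⊓ Subgroup.centralizer (T : Set Ω) := by
  obtain ⟨⟨hEs, -, hi⟩, hext⟩ := hE
  rw [hC]
  set M := T ⊔ centralizerIn S₁ T with hM
  obtain ⟨β, hβ, hβT, hβC⟩ := hext α hα
  have hTS : T ≤ S₁ := hi.2.1.1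
  have hMU : M ≤ U := sup_le hTU (hC.symm.le.trans inf_le_left)
  have hMS : M ≤ S₁ := sup_le hTS inf_le_left
  have := finite_mulAut hMS
  have := finite_mulAut (le_refl T)
  have hTM : T ≤ M := le_sup_left
  have hCM : centralizerIn S₁ T ≤ M := le_sup_right
  have hb : IsMap G M (autFn β) := (mem_autGroup_iff hMS).1 hβ
  have hbT : ∀ x ∈ T, autFn β x = autFn α x := fun x hx =>
    (autFn_apply β (hTM hx)).trans ((hβT ⟨x, hx⟩).trans (autFn_apply α hx).symm)
  have hbC : ∀ c ∈ centralizerIn S₁ T, c⁻¹ * autFn β c ∈ T ⊓ Subgroup.centralizer (T : Set Ω) :=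
    fun c hc => by
      rw [autFn_apply β (hCM hc)]
      exact hβC ⟨c, hCM hc⟩ hc
  have hbZ : ∀ z ∈ T ⊓ Subgroup.centralizer (T : Set Ω),
      autFn β z ∈ T ⊓ Subgroup.centralizer (T : Set Ω) := by
    intro z hz
    refine ⟨by rw [hbT z hz.1]; exact autFn_mem α hz.1, Subgroup.mem_centralizer_iff.2 fun y hy => ?_⟩
    obtain ⟨w, hw, rfl⟩ : ∃ w ∈ T, autFn α w = y :=
      ⟨autFn α⁻¹ y, autFn_mem _ hy, FusionCrit.autFn_self_inv α hy⟩
    rw [← hbT w hw, ← hb.map_mul (hTM hw) (hTM hz.1), ← hb.map_mul (hTM hz.1) (hTM hw),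
      Subgroup.mem_centralizer_iff.1 hz.2 w hw]
  have hpow : ∀ n : ℕ, (∀ x ∈ T, autFn (β ^ n) x = autFn (α ^ n) x) ∧
      ∀ c ∈ centralizerIn S₁ T, c⁻¹ * autFn (β ^ n) c ∈ T ⊓ Subgroup.centralizer (T : Set Ω) := by
    intro n
    induction n with
    | zero =>
      refine ⟨fun x hx => ?_, fun c hc => ?_⟩
      · rw [pow_zero, pow_zero, autFn_apply _ (hTM hx), autFn_apply _ hx]
        rfl
      · rw [pow_zero, autFn_apply _ (hCM hc)]
        simp
    | succ n ih =>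
      refine ⟨fun x hx => ?_, fun c hc => ?_⟩
      · rw [pow_succ', pow_succ', FusionCrit.autFn_mul _ _ (hTM hx), FusionCrit.autFn_mul _ _ hx,
          ih.1 x hx, hbT _ (autFn_mem _ hx)]
      · have hz := ih.2 c hc
        rw [pow_succ', FusionCrit.autFn_mul _ _ (hCM hc)]
        have hc' : autFn (β ^ n) c ∈ M := autFn_mem _ (hCM hc)
        have h1 : autFn β (autFn (β ^ n) c) = autFn β c * autFn β (c⁻¹ * autFn (β ^ n) c) := by
          rw [← hb.map_mul (hCM hc) (hTM hz.1), mul_inv_cancel_left]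
        rw [h1, ← mul_assoc]
        exact mul_mem (hbC c hc) (hbZ _ hz)
  obtain ⟨k, hk⟩ := FusionChain.exists_pow_coprime p β
  obtain ⟨m, hm, hmo⟩ := FusionProduct.exists_pow_coprime_modEq β hk
  -- the `p`-part of `α` is inner
  have hres : (β * (β ^ m)⁻¹) ^ p ^ k = 1 := by
    rw [(((Commute.refl β).pow_right m).inv_right).mul_pow, inv_pow, ← pow_mul, mul_comm m, pow_mul,
      FusionProduct.pow_eq_self_of_modEq hm, mul_inv_cancel]
  have hrT : ∀ x ∈ T, autFn (β * (β ^ m)⁻¹) x = autFn (α * (α ^ m)⁻¹) x := by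
    intro x hx
    have h1 : autFn (β ^ m)⁻¹ x = autFn (α ^ m)⁻¹ x := by
      have hw := autFn_mem (α ^ m)⁻¹ hx
      conv_lhs => rw [← FusionCrit.autFn_self_inv (α ^ m) hx, ← (hpow m).1 _ hw]
      exact FusionCrit.autFn_inv_self _ (hTM hw)
    rw [FusionCrit.autFn_mul _ _ (hTM hx), FusionCrit.autFn_mul _ _ hx, h1, hbT _ (autFn_mem _ hx)]
  have hrpow : (α * (α ^ m)⁻¹) ^ p ^ k = 1 := by
    have key : ∀ n : ℕ, ∀ x ∈ T,
        autFn ((β * (β ^ m)⁻¹) ^ n) x = autFn ((α * (α ^ m)⁻¹) ^ n) x := by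
      intro n
      induction n with
      | zero =>
        intro x hx
        rw [pow_zero, pow_zero, autFn_apply _ (hTM hx), autFn_apply _ hx]
        rfl
      | succ n ih =>
        intro x hx
        rw [pow_succ', pow_succ', FusionCrit.autFn_mul _ _ (hTM hx), FusionCrit.autFn_mul _ _ hx,
          ih x hx, hrT _ (autFn_mem _ hx)]
    refine eq_of_autFn fun x hx => ?_
    rw [← key _ x hx, hres, autFn_apply _ (hTM hx), autFn_apply _ hx]
    rfl
  have hTn : E.IsFullyNormalized T := isFullyNormalized_self E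
  obtain ⟨a, ha, hac⟩ := (isFullyAutomized_iff.1
    (fullyAutomized_of_fullyNormalized hT' hEs hTn)).2.exists_conj_le
      (H := Subgroup.zpowers (α * (α ^ m)⁻¹)) (fun y => by
        obtain ⟨y, hy⟩ := y
        obtain ⟨i, rfl⟩ := Subgroup.mem_zpowers_iff.1 hy
        refine ⟨k, Subtype.ext ?_⟩
        show ((α * (α ^ m)⁻¹) ^ i) ^ p ^ k = 1
        rw [← zpow_natCast, ← zpow_mul, mul_comm, zpow_mul, zpow_natCast, hrpow, one_zpow])
      (Subgroup.zpowers_le.2 (mul_mem hα (inv_mem (pow_mem hα m))))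
  obtain ⟨g, hg, hge⟩ := mem_autInducedBy_iff.1 (hac _ (Subgroup.mem_zpowers _))
  -- pull the inner element back along `a`
  set t := autFn a⁻¹ g with ht
  have htT : t ∈ T := autFn_mem _ hg
  have hconj : ∀ x ∈ T, autFn (α * (α ^ m)⁻¹) x = t * x * t⁻¹ := by
    intro x hx
    have ha' : IsMap E T (autFn a⁻¹) := (mem_autGroup_iff le_rfl).1 (inv_mem ha)
    have h1 := hge (a ⟨x, hx⟩)
    rw [MulAut.mul_apply, MulAut.mul_apply, MulAut.inv_apply_self, ← autFn_apply a hx,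
      ← autFn_apply a ((α * (α ^ m)⁻¹) ⟨x, hx⟩).2, ← autFn_apply (α * (α ^ m)⁻¹) hx] at h1
    have h2 := congrArg (autFn a⁻¹) h1
    rw [FusionCrit.autFn_inv_self a (autFn_mem _ hx), ha'.map_conj hg (autFn_mem a hx),
      FusionCrit.autFn_inv_self a hx] at h2
    exact h2
  have hmem : β ^ m ∈ X.autGroup M := hXi.2.2 M hMU (mem_pResidual_map (pow_mem hβ m) hmo)
  have hh : IsMap X M (autFn (β ^ m)) := (mem_autGroup_iff hMU).1 hmem
  refine ⟨fun y => t * autFn (β ^ m) y * t⁻¹,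
    hh.comp (IsMap.conj hMU (hTU htT)) (fun y hy => autFn_mem _ hy), fun x hx => ?_, fun c hc => ?_⟩
  · have e : α = (α * (α ^ m)⁻¹) * α ^ m := by group
    show t * autFn (β ^ m) x * t⁻¹ = _
    rw [(hpow m).1 x hx, ← hconj _ (autFn_mem _ hx)]
    conv_rhs => rw [e, FusionCrit.autFn_mul _ _ hx]
  · have hz := (hpow m).2 c hc
    have h1 : autFn (β ^ m) c = c * (c⁻¹ * autFn (β ^ m) c) := (mul_inv_cancel_left _ _).symm
    have hcm : autFn (β ^ m) c ∈ Subgroup.centralizer (T : Set Ω) := by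
      rw [h1]
      exact mul_mem hc.2 hz.2
    show c⁻¹ * (t * autFn (β ^ m) c * t⁻¹) ∈ _
    rw [Subgroup.mem_centralizer_iff.1 hcm t htT, mul_inv_cancel_right]
    exact hz

/-- Descent through a factor that is a `p`-group. -/
theorem pStep [Finite S] (hS : IsPGroup p S) (hi : E.IsInvariantIn F) (hK' : K' ≤ K)
    (hn : ∀ a ∈ F.autGroup T, ∀ k ∈ K', a * k * a⁻¹ ∈ K') (hB : E.autGroup T ≤ K')
    (hq : ∀ a ∈ K, ∃ k : ℕ, a ^ p ^ k ∈ K') (st : Stage F E p K G) :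
    ∃ (S₂ : Subgroup Ω) (G₂ : FusionSystem S₂), Stage F E p K' G₂ := by
  have hTS : T ≤ S := hi.2.1.1
  have hS₁ : S₁ ≤ S := st.le
  have : Finite S₁ := finite_of_le hS₁
  have : Finite T := finite_of_le hTS
  have hpS₁ := hS.to_le hS₁
  have hT := st.closedT
  have hKA := st.le_autGroup
  have hnK : ∀ a ∈ K, ∀ k ∈ K', a * k * a⁻¹ ∈ K' := fun a ha => hn a (hKA ha)
  have hEs : E.IsSaturated p := st.normal.1.1
  have hInn : Cfsg.Inn T ≤ K' := inn_le_of_autGroup hB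
  set U := topSub hT K' with hU
  have hUS₁ : U ≤ S₁ := fun s hs => (mem_topSub.1 hs).1
  have hUS : U ≤ S := hUS₁.trans hS₁
  have : Finite U := finite_of_le hUS
  have hTU : T ≤ U := fun t ht => mem_topSub.2 ⟨hT.1 ht, hInn (conjT_mem_inn hT ht)⟩
  have hhyp : G.hyperfocalSubgroup p ≤ U :=
    hyperfocal_le_topSub hpS₁ st.sat hT st.aut.le hnK hInn hq
  obtain ⟨X, hX, hXi⟩ := FusionPIndex.exists_pPowerIndex hpS₁ st.sat hUS₁ hhyp
  have hUn : (U.subgroupOf S₁).Normal := ⟨fun x hx g => by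
    obtain ⟨hxS, hx'⟩ := mem_topSub.1 hx
    refine mem_topSub.2 ⟨(g * x * g⁻¹).2, ?_⟩
    have := hnK _ (st.conjT_mem g.2) _ hx'
    rwa [← map_inv, ← map_mul, ← map_mul] at this⟩
  have hXG := FusionPIndex.isNormalIn_pPowerIndex hpS₁ st.sat hUS₁ hUn hhyp hX hXi
  have hUG : G.StronglyClosed U := hXG.1.2.2.2.1
  have hUF : F.StronglyClosed U := by
    refine Fusion.stronglyClosed_iff.2 ⟨hUS, fun P f hf x hx hxU => ?_⟩
    obtain ⟨a, ha, g, hg, hge⟩ := frattini_map st.wn.2.2 inf_le_right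
      (hf.mono (inf_le_left : P ⊓ S₁ ≤ P))
    have hxI : x ∈ P ⊓ S₁ := ⟨hx, hUS₁ hxU⟩
    have hgx : g x ∈ U := (Fusion.stronglyClosed_iff.1 hUG).2 _ g hg x hxI hxU
    rw [hge x hxI]
    obtain ⟨hgS, hgK⟩ := mem_topSub.1 hgx
    have hm : IsMap F S₁ (autFn a) := (mem_autGroup_iff hS₁).1 ha
    have haS : autFn a (g x) ∈ S₁ := autFn_mem a hgS
    obtain ⟨c, hc, hce⟩ := exists_aut_of_isIso (show IsIso F T T (autFn a) from
      ⟨hm.mono hT.1, FusionNormalCent.img_strongly hi.2.1 hm hT.1⟩)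
    have hcT : ∀ u ∈ T, autFn c u = autFn a u := fun u hu => (autFn_apply c hu).trans (hce ⟨u, hu⟩)
    refine mem_topSub.2 ⟨haS, ?_⟩
    have e : conjT hT ⟨autFn a (g x), haS⟩ = c * conjT hT ⟨g x, hgS⟩ * c⁻¹ := by
      refine eq_mul_inv_iff_mul_eq.2 (eq_of_autFn fun u hu => ?_)
      have hcu : g x * u * (g x)⁻¹ ∈ T := FusionChain.conj_mem_of_stronglyClosed hT hgS hu
      rw [FusionCrit.autFn_mul _ _ hu, FusionCrit.autFn_mul _ _ hu, autFn_conjT hT hgS hu,
        autFn_conjT hT haS (autFn_mem c hu), hcT u hu, hcT _ hcu, hm.map_conj hgS (hT.1 hu)]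
    rw [e]
    exact hn c hc _ hgK
  have hXF := invariant_comp_pPowerIndex hS st.wn hUS₁ hX hXi hXG.1.2.2 hUF
  have hEX : E.IsSubsystemOf X :=
    isSubsystemOf_of_pPowerIndex (hS.to_le hTS) hEs st.invariant.1 hXi hTU
  have hTX : X.StronglyClosed T := Fusion.stronglyClosed_iff.2 ⟨hTU, fun P f hf x hx hxT =>
    isMap_mem_of_stronglyClosed hT (FusionNormal.isMap_of_sub hXi.1 hf) hx hxT⟩
  have hKA' : K' ≤ F.autGroup T := hK'.trans hKA
  have hc : ∀ s ∈ U, ∃ γ ∈ K', ∀ x ∈ T, autFn γ x = s * x * s⁻¹ := fun s hs =>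
    let ⟨hsS, h⟩ := mem_topSub.1 hs
    ⟨_, h, fun x hx => autFn_conjT hT hsS hx⟩
  -- every map of `X` decomposes with a factor in `K'`
  let D := decSys G hi hT hKA' U hUS₁ hc
  have hXD : ∀ {P : Subgroup Ω} {f : Ω → Ω}, IsMap X P f → IsMap D P f := by
    intro P f hf
    refine isMap_of_autGroup (hS.to_le hUS) hX D (fun R hR α hα => ?_) hf
    have := finite_mulAut hR.1
    have hRU : R ≤ U := hR.1
    have hRS : R ≤ S₁ := hRU.trans hUS₁
    refine (mem_autGroup_iff hRU).1 (autGroup_le_of_sylow_pResidual (H := D.autGroup R)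
      (isFullyAutomized_iff.1 (fullyAutomized_of_fullyNormalized (hS.to_le hUS) hX hR)).2
      (autInducedBy_le_autGroup D le_rfl hRU) (fun a ha hao => ?_) hα)
    have haX : IsMap X R (autFn a) := (mem_autGroup_iff hRU).1 ha
    have haG : IsMap G R (autFn a) := FusionNormal.isMap_of_sub hXi.1 haX
    refine (mem_autGroup_iff hRU).2
      (isMap_decSys.2 ⟨hRU, fun x hx => hRU (autFn_mem a hx), haG, ?_⟩)
    have haQ : ∀ x ∈ R ⊓ T, autFn a x ∈ R ⊓ T := fun x hx =>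
      ⟨autFn_mem a hx.1, isMap_mem_of_stronglyClosed hT haG hx.1 hx.2⟩
    obtain ⟨γ, hγ, g, hg, hge⟩ := frattini_map st.invariant inf_le_right
      (haG.mono (inf_le_left : R ⊓ T ≤ R))
    have := finite_mulAut (le_refl T)
    obtain ⟨m, hm, hmo⟩ := FusionProduct.exists_pow_coprime_modEq γ hao
    obtain ⟨φ, hφ, hφe⟩ := isMap_autFn_pow hi inf_le_left inf_le_right haQ (hKA (st.aut.le hγ)) hg hge m
    rw [FusionProduct.pow_eq_self_of_modEq hm] at hφe
    obtain ⟨k, hk⟩ := hq _ (pow_mem (st.aut.le hγ) m)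
    refine ⟨γ ^ m, ?_, φ, hφ, fun x hx => (hφe x hx).1⟩
    have h1 : (γ ^ m) ^ Nat.gcd (p ^ k) (orderOf (γ ^ m)) ∈ K' := pow_gcd_mem hk (pow_orderOf_eq_one _)
    rwa [Nat.gcd_comm, (hmo.pow_right k).gcd_eq_one, pow_one] at h1
  have hautX : X.autGroup T = K' := by
    refine le_antisymm (fun a ha => mem_of_dec_top hB ?_) ?_
    · have := (isMap_decSys.1 (hXD ((mem_autGroup_iff hTU).1 ha))).2.2.2
      rwa [inf_idem] at this
    · have := finite_mulAut (le_refl T)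
      have hTn := FusionNormalCent.fullyNormalized_strongly hT
      have hA := (isFullyAutomized_iff.1 (fullyAutomized_of_fullyNormalized hpS₁ st.sat hTn)).2
      rw [st.aut] at hA
      refine autGroup_le_of_sylow_pResidual (hA.inf_normal hK' hnK) (fun b hb => ?_) fun b hb hbo => ?_
      · obtain ⟨s, hs, hse⟩ := mem_autInducedBy_iff.1 hb.1
        refine autInducedBy_le_autGroup X le_rfl hTU (mem_autInducedBy_iff.2 ⟨s, ?_, hse⟩)
        refine mem_topSub.2 ⟨hs, ?_⟩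
        rw [show conjT hT ⟨s, hs⟩ = b from eq_of_autFn fun u hu => by
          rw [autFn_conjT hT hs hu, autFn_apply b hu]; exact (hse ⟨u, hu⟩).symm]
        exact hb.2
      · exact hXi.2.2 T hTU (mem_pResidual_map (st.aut.ge (hK' hb)) hbo)
  have hEi : E.IsInvariantIn X := by
    refine FusionProduct.isInvariantIn_of_fn hEX hTX
      (fun P f hP hf α hα => transport_map hi hP hf (hKA' (hautX.le hα))) fun P f hP hf => ?_
    have hd := (isMap_decSys.1 (hXD hf)).2.2.2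
    rw [inf_eq_left.2 hP] at hd
    obtain ⟨γ, hγ, g, hg, hge⟩ := hd
    exact ⟨γ, hautX.ge hγ, g, hg, hge⟩
  have hCU : centralizerIn U T = centralizerIn S₁ T := by
    refine le_antisymm (fun c hc => ⟨hUS₁ hc.1, hc.2⟩) fun c hc' => ⟨mem_topSub.2 ⟨hc'.1, ?_⟩, hc'.2⟩
    rw [show conjT hT ⟨c, hc'.1⟩ = 1 from eq_of_autFn fun u hu => by
      rw [autFn_conjT hT hc'.1 hu, centralizerIn_conj hc' hu, autFn_apply _ hu]; rfl]
    exact one_mem _
  refine ⟨U, X, hXF, FusionProduct.isNormalIn_of_fn ⟨hEs, hX, hEi⟩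
    fun α hα => extension_pStep (hS.to_le hTS) st.normal hXi hTU hCU hα, hautX, fun s => ?_,
    (sameLimit_of_pPowerIndex hpS₁ hX st.sat hUG hXi).trans hpS₁ st.sat st.same⟩
  refine ⟨fun hs => ⟨hUS hs, hc s hs⟩, fun ⟨hsS, γ, hγ, hge⟩ => ?_⟩
  have hs₁ : s ∈ S₁ := (st.dom s).2 ⟨hsS, γ, hK' hγ, hge⟩
  refine mem_topSub.2 ⟨hs₁, ?_⟩
  rw [show conjT hT ⟨s, hs₁⟩ = γ from eq_of_autFn fun u hu => by rw [autFn_conjT hT hs₁ hu, hge u hu]]
  exact hγ

end Cfsg.Agent.FusionEnvelope
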