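import Cfsg.Agent.EqLemmas
import Cfsg.Agent.Lib.FusionEnvelope.PStep
import Cfsg.Agent.Lib.FusionEnvelope.PPrimeStep
import Cfsg.Agent.Lib.FusionNormalCent.Centralizer
import Cfsg.Agent.Lib.FusionNormalCent.Normal

/-
The envelope of a normal subsystem with `p`-solvable quotient `Aut_F(T)/Aut_E(T)`.
Main results: `exists_stage_bot`, `exists_envelope`, `isNormalIn_envelope`, `sameLimit_envelope`.
-/

set_option autoImplicit false

namespace Cfsg.Agent.FusionEnvelope

open Cfsg Cfsg.FusionSystem Cfsg.Agent.Fusion Cfsg.Agent.FusionChain Cfsg.Agent.FusionNormal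

variable {Ω : Type*} [Group Ω] {S T : Subgroup Ω} {F : FusionSystem S} {E : FusionSystem T} {p : ℕ}
  [Fact p.Prime]

omit [Fact p.Prime] in
theorem mem_of_coprime_pow {G : Type*} [Group G] {H : Subgroup G} {a : G} {m n : ℕ} (hm : a ^ m ∈ H)
    (hn : a ^ n ∈ H) (h : m.Coprime n) : a ∈ H := by
  have e : a = (a ^ m) ^ m.gcdA n * (a ^ n) ^ m.gcdB n := by
    rw [← zpow_natCast a m, ← zpow_natCast a n, ← zpow_mul, ← zpow_mul, ← zpow_add,
      ← Nat.gcd_eq_gcd_ab, h.gcd_eq_one, Nat.cast_one, zpow_one]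
  rw [e]
  exact mul_mem (zpow_mem hm _) (zpow_mem hn _)

/-- The descent along the chain. -/
theorem exists_stage_bot [Finite S] (hS : IsPGroup p S) (hF : F.IsSaturated p) (hE : E.IsNormalIn F p)
    [hn : ((E.autGroup T).subgroupOf (F.autGroup T)).Normal]
    (hsolv : Cfsg.IsPSolvable p (↥(F.autGroup T) ⧸ (E.autGroup T).subgroupOf (F.autGroup T))) :
    ∃ (S₁ : Subgroup Ω) (G : FusionSystem S₁), Stage F E p (E.autGroup T) G := by
  have hi : E.IsInvariantIn F := hE.1.2.2
  have hBA : E.autGroup T ≤ F.autGroup T := FusionNormal.autGroup_le_of_sub hi.1 le_rfl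
  obtain ⟨n, H, h0, hlast, hmono, hnorm, hstep⟩ := hsolv
  set A := F.autGroup T with hA
  set B := (E.autGroup T).subgroupOf A with hB
  let J : Fin (n + 1) → Subgroup A := fun i => (H i).comap (QuotientGroup.mk' B)
  let K : Fin (n + 1) → Subgroup (MulAut T) := fun i => (J i).map A.subtype
  have hK0 : K 0 = E.autGroup T := by
    show ((H 0).comap (QuotientGroup.mk' B)).map A.subtype = _
    rw [h0, MonoidHom.comap_bot, QuotientGroup.ker_mk', hB, Subgroup.map_subgroupOf_eq_of_le hBA]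
  have hKlast : K (Fin.last n) = A := by
    show ((H _).comap (QuotientGroup.mk' B)).map A.subtype = _
    rw [hlast, Subgroup.comap_top, ← MonoidHom.range_eq_map, Subgroup.range_subtype]
  have hKn : ∀ i, ∀ a ∈ A, ∀ k ∈ K i, a * k * a⁻¹ ∈ K i := by
    rintro i a ha _ ⟨k, hk, rfl⟩
    exact ⟨⟨a, ha⟩ * k * ⟨a, ha⟩⁻¹, ((hnorm i).comap (QuotientGroup.mk' B)).conj_mem k hk ⟨a, ha⟩, rfl⟩
  have hKmono : Monotone K := fun i j h => Subgroup.map_mono (Subgroup.comap_mono (hmono h))
  have hBK : ∀ i, E.autGroup T ≤ K i := fun i => hK0 ▸ hKmono (Fin.zero_le i)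
  suffices h : ∀ i, ∃ (S₁ : Subgroup Ω) (G : FusionSystem S₁), Stage F E p (K i) G from hK0 ▸ h 0
  intro i
  induction i using Fin.reverseInduction with
  | last => exact ⟨S, F, hKlast ▸ stage_top hS hF hE⟩
  | cast i ih =>
    obtain ⟨S₁, G, st⟩ := ih
    have hle : K i.castSucc ≤ K i.succ := hKmono (Fin.castSucc_lt_succ (i := i)).le
    set N := (H i.castSucc).subgroupOf (H i.succ) with hN
    have := (hnorm i.castSucc).subgroupOf (H i.succ)
    have hidx : ∀ x : H i.succ, x ^ (H i.castSucc).relIndex (H i.succ) ∈ N := fun x =>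
      Subgroup.pow_index_mem N x
    rcases hstep i with ⟨m, hm⟩ | hco
    · refine pStep hS hi hle (hKn _) (hBK _) (fun a ha => ⟨m, ?_⟩) st
      obtain ⟨a, ha', rfl⟩ := ha
      refine ⟨a ^ p ^ m, ?_, map_pow _ _ _⟩
      show QuotientGroup.mk' B (a ^ p ^ m) ∈ H i.castSucc
      rw [map_pow, ← hm]
      exact hidx ⟨_, ha'⟩
    · refine pPrimeStep hS hi hle (hKn _) (hBK _) (fun a ha k hk => ?_) st
      obtain ⟨a, ha', rfl⟩ := ha
      refine ⟨a, ?_, rfl⟩
      obtain ⟨b, hb, hbe⟩ := hk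
      have hba : b = a ^ p ^ k := Subtype.ext (hbe.trans (map_pow A.subtype a _).symm)
      refine mem_of_coprime_pow (H := H i.castSucc) (hidx ⟨_, ha'⟩) ?_ (hco.pow_right k)
      rw [← map_pow, ← hba]
      exact hb

/-- The last stage lives on `T C_S(T)`. -/
theorem exists_envelope [Finite S] (hS : IsPGroup p S) (hF : F.IsSaturated p) (hE : E.IsNormalIn F p)
    [hn : ((E.autGroup T).subgroupOf (F.autGroup T)).Normal]
    (hsolv : Cfsg.IsPSolvable p (↥(F.autGroup T) ⧸ (E.autGroup T).subgroupOf (F.autGroup T))) :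
    ∃ F₀ : FusionSystem (T ⊔ centralizerIn S T), Stage F E p (E.autGroup T) F₀ := by
  obtain ⟨S₁, G, st⟩ := exists_stage_bot hS hF hE hsolv
  have hTS : T ≤ S := hE.1.2.2.2.1.1
  have : Finite T := finite_of_le hTS
  have := finite_mulAut (le_refl T)
  have e : S₁ = T ⊔ centralizerIn S T := by
    refine le_antisymm (fun s hs => ?_) (sup_le (fun t ht => ?_) fun c hc => ?_)
    · obtain ⟨hsS, γ, hγ, hge⟩ := (st.dom s).1 hs
      have hp : IsPGroup p (Subgroup.zpowers γ) := by
        have hle : Subgroup.zpowers γ ≤ autInducedBy S T := Subgroup.zpowers_le.2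
          (mem_autInducedBy_iff.2 ⟨s, hsS, fun x => by
            rw [← autFn_apply γ x.2, hge x x.2]⟩)
        exact (isPGroup_autInducedBy hS).to_le hle
      obtain ⟨a, ha, hac⟩ := (isFullyAutomized_iff.1 (fullyAutomized_of_fullyNormalized (hS.to_le hTS)
        hE.1.1 (isFullyNormalized_self E))).2.exists_conj_le hp (Subgroup.zpowers_le.2 hγ)
      obtain ⟨g, hg, hge'⟩ := mem_autInducedBy_iff.1 (hac γ (Subgroup.mem_zpowers γ))
      have ha' : IsMap E T (autFn a⁻¹) := (mem_autGroup_iff le_rfl).1 (inv_mem ha)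
      set t := autFn a⁻¹ g with ht
      have htT : t ∈ T := autFn_mem _ hg
      have hconj : ∀ x ∈ T, autFn γ x = t * x * t⁻¹ := fun x hx => by
        have h1 := hge' (a ⟨x, hx⟩)
        rw [MulAut.mul_apply, MulAut.mul_apply, MulAut.inv_apply_self, ← autFn_apply a hx,
          ← autFn_apply a (γ ⟨x, hx⟩).2, ← autFn_apply γ hx] at h1
        have h2 := congrArg (autFn a⁻¹) h1
        rwa [FusionCrit.autFn_inv_self a (autFn_mem _ hx), ha'.map_conj hg (autFn_mem a hx),
          FusionCrit.autFn_inv_self a hx] at h2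
      have hc : t⁻¹ * s ∈ centralizerIn S T := by
        refine mem_centralizerIn_of_conj (mul_mem (inv_mem (hTS htT)) hsS) fun x hx => ?_
        calc t⁻¹ * s * x * (t⁻¹ * s)⁻¹ = t⁻¹ * (s * x * s⁻¹) * t := by group
          _ = x := by rw [← hge x hx, hconj x hx]; group
      simpa using mul_mem (Subgroup.mem_sup_left htT : t ∈ T ⊔ centralizerIn S T) (Subgroup.mem_sup_right hc)
    · exact st.T_le ht
    · refine (st.dom c).2 ⟨hc.1, 1, one_mem _, fun x hx => ?_⟩
      rw [autFn_apply _ hx, centralizerIn_conj hc hx]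
      rfl
  subst e
  exact ⟨G, st⟩

omit [Fact p.Prime] in
theorem isNormalIn_envelope [Finite S] {F₀ : FusionSystem (T ⊔ centralizerIn S T)}
    (st : Stage F E p (E.autGroup T) F₀) : F₀.IsNormalIn F p := by
  have hT₀S : (T ⊔ centralizerIn S T) ≤ S := st.le
  have : Finite (T ⊔ centralizerIn S T : Subgroup Ω) := finite_of_le hT₀S
  have hC : centralizerIn S (T ⊔ centralizerIn S T) ≤ (T ⊔ centralizerIn S T) := fun c hc => Subgroup.mem_sup_right (mem_centralizerIn.2
    ⟨hc.1, fun x hx => (mem_centralizerIn.1 hc).2 x (Subgroup.mem_sup_left hx)⟩)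
  refine FusionProduct.isNormalIn_of_fn st.wn fun α hα => ⟨autFn α, ?_, fun x _ => rfl, fun c hc => ?_⟩
  · rw [sup_eq_left.2 hC]
    exact FusionNormal.isMap_of_sub st.isSub ((mem_autGroup_iff le_rfl).1 hα)
  · have hiso := isIso_autFn le_rfl hα
    have hcT : c ∈ centralizerIn (T ⊔ centralizerIn S T) (T ⊔ centralizerIn S T) := ⟨hC hc, hc.2⟩
    have h1 := map_centralizerIn hiso.1 le_rfl hiso.2 (hC hc) hcT
    exact ⟨Subgroup.mul_mem _ (Subgroup.inv_mem _ (hC hc)) h1.1,
      Subgroup.mul_mem _ (Subgroup.inv_mem _ hc.2) h1.2⟩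

/-- A centralizer-free normal subsystem has the residual limit of the system. -/
theorem sameLimit_envelope [Finite S] (hS : IsPGroup p S) (hF : F.IsSaturated p) (hE : E.IsNormalIn F p)
    (hCE : ∀ Y : Subgroup Ω, Y ≤ centralizerIn S T → (∀ C : FusionSystem (centralizerIn S Y),
      F.IsCentralizerSystem Y C → E.IsSubsystemOf C) → Y ≤ T)
    {F₀ : FusionSystem (T ⊔ centralizerIn S T)} (st : Stage F E p (E.autGroup T) F₀) :
    SameLimit E F p := by
  have hT₀S : (T ⊔ centralizerIn S T) ≤ S := st.le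
  have : Finite (T ⊔ centralizerIn S T : Subgroup Ω) := finite_of_le hT₀S
  have hTS : T ≤ S := hE.1.2.2.2.1.1
  have : Finite T := finite_of_le hTS
  have hpT₀ := hS.to_le hT₀S
  have hT := st.closedT
  have hcent : FusionNormalCent.cent F E p hE.1.2.2 ≤ T := by
    refine hCE _ (FusionNormalCent.cent_le hE) fun C hC P => ?_
    rw [hC P]
    exact (FusionNormalCent.centralizes_iff hTS (FusionNormalCent.cent_le hE)).2
      (FusionNormalCent.cent_centralizes hE hS hF) P
  obtain ⟨D, -, hD⟩ := FusionNormalCent.exists_centralizerT hS hF hE.1.2.2.2.1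
  have key : ∀ {R : Subgroup Ω} {g : Ω → Ω}, IsMap F₀ R g → T ≤ R → ∀ x ∈ R, x⁻¹ * g x ∈ T := by
    intro R g hg hTR x hx
    have hgF : IsMap F R g := FusionNormal.isMap_of_sub st.isSub hg
    obtain ⟨t, ht, c, hc, rfl⟩ := FusionNormalCent.exists_eq_mul
      (R := T) (V := centralizerIn S T) (fun r hr v hv => by
        rw [← (mem_centralizerIn.1 hv).2 r hr, mul_inv_cancel_right]; exact hv) (hg.le hx)
    have hcR : c ∈ R := by simpa using R.mul_mem (R.inv_mem (hTR ht)) hx
    obtain ⟨e, he, hee⟩ := exists_aut_of_isIso (show IsIso F₀ T T g from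
      ⟨hg.mono hTR, FusionNormalCent.img_strongly hT hg hTR⟩)
    have heT : ∀ u ∈ T, autFn e u = g u := fun u hu => (autFn_apply e hu).trans (hee ⟨u, hu⟩)
    obtain ⟨β, hβ, hβT, hβC⟩ := hE.2 e (st.aut.le he)
    have hTM : T ≤ T ⊔ centralizerIn S T := le_sup_left
    have hb : IsMap F (T ⊔ centralizerIn S T) (autFn β) := (mem_autGroup_iff hT₀S).1 hβ
    have hbi : IsMap F (T ⊔ centralizerIn S T) (autFn β⁻¹) := (mem_autGroup_iff hT₀S).1 (inv_mem hβ)
    have hbT : ∀ u ∈ T, autFn β u = g u := fun u hu => by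
      rw [autFn_apply β (hTM hu), ← hee ⟨u, hu⟩]
      exact hβT ⟨u, hu⟩
    set d := fun z => autFn β⁻¹ (g z) with hd
    have hdF : IsMap F R d := hgF.comp hbi fun z hz => hg.mem hz
    have hdT : ∀ u ∈ T, d u = u := fun u hu => by
      show autFn β⁻¹ (g u) = u
      rw [← hbT u hu, FusionCrit.autFn_inv_self β (hTM hu)]
    have hdimg : img d T = T := IsIso.img_eq_of hdF hTR (fun u hu => (hdT u hu).symm ▸ hu)
      fun u hu => ⟨u, hu, hdT u hu⟩
    -- `d` moves `C_R(T)` only inside the focal subgroup of `C_F(T)`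
    set P := R ⊓ centralizerIn S T with hP
    obtain ⟨φ, hφ, hφe⟩ := hdF.mono (inf_le_left : P ≤ R)
    obtain ⟨ψ, hψ, hψe⟩ := hdF.mono (sup_le inf_le_left hTR : P ⊔ T ≤ R)
    have hφD : φ ∈ D.Hom P := by
      rw [hD P]
      refine ⟨hφ, inf_le_right, fun z => ?_, ψ, hψ, fun z => ?_, fun u => ?_⟩
      · rw [hφe z z.2]
        exact map_centralizerIn hdF hTR hdimg z.2.1 z.2.2
      · exact (hψe _ _).trans (hφe z z.2).symm
      · exact (hψe _ _).trans (hdT u u.2)
    have hu : c⁻¹ * d c ∈ T := by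
      refine hcent (FusionNormalCent.focal_le_cent hE hS hF hD (Subgroup.subset_closure
        ⟨P, φ, ⟨c, hcR, hc⟩, hφD, ?_⟩))
      rw [hφe c ⟨hcR, hc⟩]
    have hcM : c ∈ (T ⊔ centralizerIn S T) := Subgroup.mem_sup_right hc
    have hgc : c⁻¹ * g c ∈ T := by
      have h1 : g c = autFn β (c * (c⁻¹ * d c)) := by
        rw [mul_inv_cancel_left]
        exact (FusionCrit.autFn_self_inv β (hg.mem hcR)).symm
      rw [h1, hb.map_mul hcM (hTM hu), ← mul_assoc, hbT _ hu]
      refine T.mul_mem ?_ (heT _ hu ▸ autFn_mem e hu)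
      rw [autFn_apply β hcM]
      exact (hβC ⟨c, hcM⟩ hc).1
    have hgt : t⁻¹ * g t ∈ T := T.mul_mem (T.inv_mem ht) (heT t ht ▸ autFn_mem e ht)
    have hconj := FusionChain.conj_mem_of_stronglyClosed hT (Subgroup.inv_mem (T ⊔ centralizerIn S T) hcM) hgt
    rw [hg.map_mul (hTR ht) hcR]
    have := T.mul_mem hconj hgc
    simpa [mul_assoc] using this
  have hhyp : F₀.hyperfocalSubgroup p ≤ T := by
    refine (Subgroup.closure_le _).2 ?_
    rintro y ⟨P, α, x, hP, -, rfl⟩
    obtain ⟨g, hg, hge⟩ := exists_map_congr_mod hpT₀ st.sat hT ((mem_autGroup_iff hP).1 α.2)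
    have h1 := T.mul_mem (key hg le_sup_right x (Subgroup.mem_sup_left x.2)) (hge x x.2)
    rw [autFn_apply _ x.2] at h1
    simpa [mul_assoc] using h1
  have hTn : (T.subgroupOf (T ⊔ centralizerIn S T)).Normal := ⟨fun x hx g =>
    FusionChain.conj_mem_of_stronglyClosed hT g.2 hx⟩
  obtain ⟨X, hX, hXi⟩ := FusionPIndex.exists_pPowerIndex hpT₀ st.sat st.T_le hhyp
  have hEs : E.IsSaturated p := hE.1.1
  have hEX : E.IsSubsystemOf X :=
    isSubsystemOf_of_pPowerIndex (hS.to_le hTS) hEs st.invariant.1 hXi le_rfl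
  exact ((sameLimit_of_primeIndex (hS.to_le hTS) hEs hX
    (primeIndex_of_invariant (hS.to_le hTS) hX hEX hXi.1 st.invariant)).trans (hS.to_le hTS) hX
    (sameLimit_of_pPowerIndex hpT₀ hX st.sat hT hXi)).trans hpT₀ st.sat st.same

end Cfsg.Agent.FusionEnvelope
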